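import Groth.Agent.Lib.UnivHomeo.Tower
import Mathlib.FieldTheory.IsAlgClosed.AlgebraicClosure
import Mathlib.RingTheory.AdjoinRoot

/-!
Universal homeomorphisms of affine schemes and towers.
-/

universe u

open CategoryTheory AlgebraicGeometry

namespace Groth.Agent.UH

variable {A B : Type u} [CommRing A] [CommRing B]

theorem isUnivHomeo_Spec_iff (φ : A →+* B) :
    FlatMor.IsUnivHomeo (Spec.map (CommRingCat.ofHom φ)) ↔
      φ.IsIntegral ∧ (Inj2 φ ∧ Rad φ) ∧ ∀ p : Ideal A, p.IsPrime → ∃ q : Ideal B, q.IsPrime ∧ q.comap φ = p := by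
  rw [isUnivHomeo_iff, surjective_iff]
  exact and_congr_right' (and_congr_left'
    ⟨rad_inj2_of_universallyInjective φ, fun h => universallyInjective_of_inj2_rad φ h.1 h.2⟩)

theorem isUnivHomeo_Spec_iff_of_injective (φ : A →+* B) (hinj : Function.Injective φ) :
    FlatMor.IsUnivHomeo (Spec.map (CommRingCat.ofHom φ)) ↔ φ.IsIntegral ∧ Inj2 φ ∧ Rad φ := by
  rw [isUnivHomeo_Spec_iff]
  exact ⟨fun ⟨h₁, h₂, _⟩ => ⟨h₁, h₂⟩,
    fun ⟨h₁, h₂⟩ => ⟨h₁, h₂, fun p _ => exists_over_of_injective φ hinj h₁ p⟩⟩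

variable [Algebra A B]

theorem hasTowers_stepP_iff (hinj : Function.Injective (algebraMap A B)) :
    FlatMor.IsUnivHomeo (Spec.map (CommRingCat.ofHom (algebraMap A B))) ↔ HasTowers A B StepP := by
  rw [isUnivHomeo_Spec_iff_of_injective _ hinj]
  refine ⟨fun ⟨h₁, h₂, h₃⟩ => hasTowers_stepP_of ⟨h₁⟩ h₂ h₃, fun h => ?_⟩
  exact ⟨(isIntegral_of_hasTowers h).isIntegral,
    rad_inj2_of_universallyInjective _ (universallyInjective_of_hasTowers h)⟩

theorem hasTowers_stepSC_iff (hinj : Function.Injective (algebraMap A B)) :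
    (FlatMor.IsUnivHomeo (Spec.map (CommRingCat.ofHom (algebraMap A B))) ∧
      ∀ x : Spec (CommRingCat.of B),
        Function.Surjective ((Spec.map (CommRingCat.ofHom (algebraMap A B))).residueFieldMap x)) ↔
      HasTowers A B StepSC := by
  rw [forall_residueFieldMap_surjective_iff]
  refine ⟨fun ⟨hu, hr⟩ => ?_, fun h => ⟨(hasTowers_stepP_iff hinj).mpr
    (h.mono fun _ _ => stepP_of_stepSC), res_of_hasTowers h⟩⟩
  obtain ⟨h₁, h₂, -⟩ := (isUnivHomeo_Spec_iff_of_injective _ hinj).mp hu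
  exact hasTowers_stepSC_of ⟨h₁⟩ h₂ hr

/-- Surjectivity on spectra from extensions of points valued in algebraically closed fields. -/
theorem surjective_of_algClosed (φ : A →+* B)
    (h : ∀ (K : Type u) [Field K] [IsAlgClosed K] (g : A →+* K), ∃ g' : B →+* K, g'.comp φ = g) :
    ∀ p : Ideal A, p.IsPrime → ∃ q : Ideal B, q.IsPrime ∧ q.comap φ = p := by
  intro p hp
  let K := AlgebraicClosure (FractionRing (A ⧸ p))
  let g : A →+* K := (algebraMap (FractionRing (A ⧸ p)) K).comp
    ((algebraMap (A ⧸ p) (FractionRing (A ⧸ p))).comp (Ideal.Quotient.mk p))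
  obtain ⟨g', hg'⟩ := h K g
  refine ⟨RingHom.ker g', RingHom.ker_isPrime g', ?_⟩
  rw [RingHom.comap_ker, hg']
  ext a
  rw [RingHom.mem_ker]
  refine (map_eq_zero_iff _ (algebraMap (FractionRing (A ⧸ p)) K).injective).trans ?_
  exact (map_eq_zero_iff (algebraMap (A ⧸ p) (FractionRing (A ⧸ p)))
    (IsFractionRing.injective (A ⧸ p) (FractionRing (A ⧸ p)))).trans Ideal.Quotient.eq_zero_iff_mem

theorem adjoin_mk_X (I : Ideal (Polynomial A)) :
    Algebra.adjoin A {Ideal.Quotient.mk I Polynomial.X} = ⊤ := by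
  have : (Ideal.Quotient.mkₐ A I).range = ⊤ :=
    (AlgHom.range_eq_top _).mpr (Ideal.Quotient.mkₐ_surjective A I)
  rw [← this, ← Algebra.map_top, ← Polynomial.adjoin_X, AlgHom.map_adjoin, Set.image_singleton]
  rfl

theorem hasTowers_singleton {Pr : Subalgebra A B → B → Prop} (b : B)
    (htop : Algebra.adjoin A {b} = ⊤) (h : Pr ⊥ b) : HasTowers A B Pr := by
  intro E
  refine ⟨[b], ?_, fun i => ?_⟩
  · rw [show {c : B | c ∈ [b]} = {b} by ext c; simp, htop]
    exact fun _ _ => Algebra.mem_top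
  · have e : [b].get i = b := by simp
    have hb : Before [b] i = ∅ := by
      ext c
      simp only [Before, Set.mem_setOf_eq, Set.mem_empty_iff_false, iff_false, not_exists, not_and]
      intro j hj
      have := Fin.lt_def.mp hj
      have hi : i.1 < 1 := i.2
      omega
    rw [e, hb, Algebra.adjoin_empty]
    exact h

end Groth.Agent.UH
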