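import Groth.Agent.Lib.UnivHomeo.Main
import Mathlib.AlgebraicGeometry.Morphisms.Immersion
import Mathlib.AlgebraicGeometry.Morphisms.FlatDescent

/-!
General properties of universal homeomorphisms of schemes.
-/

universe u

open CategoryTheory AlgebraicGeometry Limits MorphismProperty

namespace Groth.Agent.UH

variable {X Y Z : Scheme.{u}}

theorem isUnivHomeo_iff_uc_ui_surjective (f : X ⟶ Y) :
    FlatMor.IsUnivHomeo f ↔ UniversallyClosed f ∧ UniversallyInjective f ∧ Surjective f :=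
  ⟨fun h => ⟨universallyClosed_of_isUnivHomeo h, universallyInjective_of_isUnivHomeo h,
    surjective_of_isUnivHomeo h⟩, fun ⟨_, _, _⟩ => isUnivHomeo_of f⟩

theorem isUnivHomeo_comp {f : X ⟶ Y} {g : Y ⟶ Z} (hf : FlatMor.IsUnivHomeo f)
    (hg : FlatMor.IsUnivHomeo g) : FlatMor.IsUnivHomeo (f ≫ g) := by
  obtain ⟨_, _, _⟩ := (isUnivHomeo_iff_uc_ui_surjective f).mp hf
  obtain ⟨_, _, _⟩ := (isUnivHomeo_iff_uc_ui_surjective g).mp hg
  haveI : UniversallyInjective (f ≫ g) := MorphismProperty.comp_mem _ f g ‹_› ‹_›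
  exact isUnivHomeo_of _

theorem isUnivHomeo_snd (f : X ⟶ Z) (g : Y ⟶ Z) (h : FlatMor.IsUnivHomeo f) :
    FlatMor.IsUnivHomeo (pullback.snd f g) := by
  obtain ⟨_, _, _⟩ := (isUnivHomeo_iff_uc_ui_surjective f).mp h
  haveI : UniversallyInjective (pullback.snd f g) := MorphismProperty.pullback_snd _ _ ‹_›
  exact isUnivHomeo_of _

theorem isUnivHomeo_fst (f : X ⟶ Z) (g : Y ⟶ Z) (h : FlatMor.IsUnivHomeo g) :
    FlatMor.IsUnivHomeo (pullback.fst f g) := by
  obtain ⟨_, _, _⟩ := (isUnivHomeo_iff_uc_ui_surjective g).mp h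
  haveI : UniversallyInjective (pullback.fst f g) := MorphismProperty.pullback_fst _ _ ‹_›
  exact isUnivHomeo_of _

/-- A surjective immersion is a universal homeomorphism. -/
theorem isUnivHomeo_of_isImmersion (f : X ⟶ Y) [IsImmersion f] [Surjective f] :
    FlatMor.IsUnivHomeo f := by
  intro X' Y' i₁ i₂ f' h
  haveI : IsImmersion f' := MorphismProperty.of_isPullback h.flip ‹_›
  haveI : Surjective f' := MorphismProperty.of_isPullback h.flip ‹_›
  exact isHomeomorph_iff_isEmbedding_surjective.mpr ⟨f'.isEmbedding, f'.surjective⟩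

theorem of_comp_left {f : X ⟶ Y} {g : Y ⟶ Z} (hfg : FlatMor.IsUnivHomeo (f ≫ g))
    (hf : FlatMor.IsUnivHomeo f) : FlatMor.IsUnivHomeo g := by
  intro Y' Z' i₁ i₂ g' h
  let X' := pullback f i₁
  have hp : IsPullback (pullback.snd f i₁) (pullback.fst f i₁) i₁ f :=
    (IsPullback.of_hasPullback f i₁).flip
  have h₁ : IsHomeomorph (pullback.snd f i₁).base := hf _ _ _ hp
  have h₂ : IsHomeomorph ((pullback.snd f i₁) ≫ g').base := hfg _ _ _ (hp.paste_horiz h)
  let e := h₁.homeomorph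
  have : (g'.base : Y' → Z') = ((pullback.snd f i₁) ≫ g').base ∘ e.symm := by
    funext y
    show g'.base y = g'.base ((pullback.snd f i₁).base (e.symm y))
    rw [show (pullback.snd f i₁).base (e.symm y) = y from e.apply_symm_apply y]
  show IsHomeomorph g'.base
  rw [this]
  exact h₂.comp e.symm.isHomeomorph

theorem of_comp_right {f : X ⟶ Y} {g : Y ⟶ Z} (hfg : FlatMor.IsUnivHomeo (f ≫ g))
    (hg : FlatMor.IsUnivHomeo g) : FlatMor.IsUnivHomeo f := by
  let Γ : X ⟶ pullback (f ≫ g) g := pullback.lift (𝟙 X) f (by simp)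
  have hΓ : Γ ≫ pullback.fst _ _ = 𝟙 X := pullback.lift_fst _ _ _
  haveI : IsImmersion (Γ ≫ pullback.fst _ _) := by rw [hΓ]; infer_instance
  haveI : IsImmersion Γ := IsImmersion.of_comp Γ (pullback.fst _ _)
  haveI : Surjective Γ := ⟨fun w => ⟨pullback.fst (f ≫ g) g w,
    (isHomeomorph_of_isUnivHomeo (isUnivHomeo_fst (f ≫ g) g hg)).injective (by
      rw [← Scheme.Hom.comp_apply, hΓ]; rfl)⟩⟩
  rw [← show Γ ≫ pullback.snd _ _ = f from pullback.lift_snd _ _ _]
  exact isUnivHomeo_comp (isUnivHomeo_of_isImmersion Γ) (isUnivHomeo_snd _ _ hfg)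

theorem isUnivHomeo_Spec_of_isPurelyInseparable (k K : Type u) [Field k] [Field K] [Algebra k K]
    [IsPurelyInseparable k K] :
    FlatMor.IsUnivHomeo (Spec.map (CommRingCat.ofHom (algebraMap k K))) := by
  rw [isUnivHomeo_Spec_iff_of_injective _ (algebraMap k K).injective]
  refine ⟨Algebra.IsIntegral.isIntegral, fun q q' hq hq' _ => ?_, fun q hq b => ?_⟩
  · rw [(Ideal.eq_bot_of_prime q), (Ideal.eq_bot_of_prime q')]
  · obtain ⟨p, hp⟩ := ExpChar.exists k
    haveI := hp
    obtain ⟨n, a, ha⟩ := IsPurelyInseparable.pow_mem k p b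
    have hr : ResAt (algebraMap k K) q (b ^ p ^ n) :=
      ⟨a, 1, fun h => by rw [map_one] at h; exact Ideal.one_notMem q h,
        by rw [map_one, one_mul, ha, sub_self]; exact q.zero_mem⟩
    rcases hp with _ | ⟨hprime⟩
    · exact Or.inl (by rwa [one_pow, pow_one] at hr)
    · refine Or.inr ⟨p, hprime, ?_, n, hr⟩
      rw [← map_natCast (algebraMap k K), CharP.cast_eq_zero, map_zero]
      exact q.zero_mem

end Groth.Agent.UH
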