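import Groth.Prelude.Def_Flat
import Mathlib.AlgebraicGeometry.Morphisms.Integral
import Mathlib.AlgebraicGeometry.Morphisms.UniversallyInjective
import Mathlib.RingTheory.LocalRing.ResidueField.Ideal
import Mathlib.RingTheory.Ideal.GoingUp
import Mathlib.FieldTheory.PurelyInseparable.Basic

/-!
Universal homeomorphisms of affine schemes in terms of ring maps.
-/

universe u

open CategoryTheory AlgebraicGeometry Limits MorphismProperty

namespace Groth.Agent.UH

variable {X Y : Scheme.{u}}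

theorem isHomeomorph_of (f : X ⟶ Y) [UniversallyClosed f] [UniversallyInjective f] [Surjective f] :
    IsHomeomorph f.base := by
  refine ⟨f.continuous, fun U hU => ?_, f.injective, f.surjective⟩
  rw [← compl_compl U, Set.image_compl_eq ⟨f.injective, f.surjective⟩]
  exact (f.isClosedMap _ hU.isClosed_compl).isOpen_compl

/-- A universally closed, universally injective, surjective morphism is a universal homeomorphism. -/
theorem isUnivHomeo_of (f : X ⟶ Y) [UniversallyClosed f] [UniversallyInjective f] [Surjective f] :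
    FlatMor.IsUnivHomeo f := by
  intro X' Y' i₁ i₂ f' h
  haveI : UniversallyClosed f' := MorphismProperty.of_isPullback h.flip ‹_›
  haveI : Surjective f' := MorphismProperty.of_isPullback h.flip ‹_›
  haveI : UniversallyInjective f' := MorphismProperty.of_isPullback h.flip ‹_›
  exact isHomeomorph_of f'

theorem universallyClosed_of_isUnivHomeo {f : X ⟶ Y} (h : FlatMor.IsUnivHomeo f) :
    UniversallyClosed f :=
  ⟨fun _ _ _ _ _ hp => (h _ _ _ hp).isClosedMap⟩

theorem universallyInjective_of_isUnivHomeo {f : X ⟶ Y} (h : FlatMor.IsUnivHomeo f) :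
    UniversallyInjective f :=
  ⟨fun _ _ _ _ _ hp => (h _ _ _ hp).injective⟩

theorem isHomeomorph_of_isUnivHomeo {f : X ⟶ Y} (h : FlatMor.IsUnivHomeo f) :
    IsHomeomorph f.base :=
  h (𝟙 X) (𝟙 Y) f (IsPullback.of_vert_isIso ⟨by simp⟩)

theorem surjective_of_isUnivHomeo {f : X ⟶ Y} (h : FlatMor.IsUnivHomeo f) : Surjective f :=
  ⟨(isHomeomorph_of_isUnivHomeo h).surjective⟩

theorem isUnivHomeo_iff_of_isAffineHom (f : X ⟶ Y) [IsAffineHom f] :
    FlatMor.IsUnivHomeo f ↔ IsIntegralHom f ∧ UniversallyInjective f ∧ Surjective f :=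
  ⟨fun h => ⟨IsIntegralHom.iff_universallyClosed_and_isAffineHom.mpr
      ⟨universallyClosed_of_isUnivHomeo h, inferInstance⟩,
    universallyInjective_of_isUnivHomeo h, surjective_of_isUnivHomeo h⟩,
    fun ⟨_, _, _⟩ => isUnivHomeo_of f⟩

section Ring

variable {A B : Type u} [CommRing A] [CommRing B] (φ : A →+* B)

/-- At most one prime over each prime. -/
def Inj2 : Prop := ∀ q q' : Ideal B, q.IsPrime → q'.IsPrime → q.comap φ = q'.comap φ → q = q'

/-- `b` is, modulo `q`, a fraction of elements of `A`. -/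
def ResAt (q : Ideal B) (b : B) : Prop := ∃ a s : A, φ s ∉ q ∧ φ s * b - φ a ∈ q

/-- All residue field extensions are trivial. -/
def Res : Prop := ∀ q : Ideal B, q.IsPrime → ∀ b : B, ResAt φ q b

/-- All residue field extensions are purely inseparable. -/
def Rad : Prop := ∀ q : Ideal B, q.IsPrime → ∀ b : B,
  ResAt φ q b ∨ ∃ p : ℕ, p.Prime ∧ (p : B) ∈ q ∧ ∃ n : ℕ, ResAt φ q (b ^ p ^ n)

theorem rad_of_res (h : Res φ) : Rad φ := fun q hq b => Or.inl (h q hq b)

theorem isUnivHomeo_iff :
    FlatMor.IsUnivHomeo (Spec.map (CommRingCat.ofHom φ)) ↔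
      φ.IsIntegral ∧ UniversallyInjective (Spec.map (CommRingCat.ofHom φ)) ∧
        Surjective (Spec.map (CommRingCat.ofHom φ)) := by
  rw [isUnivHomeo_iff_of_isAffineHom, IsIntegralHom.SpecMap_iff]
  rfl

/-- Universal injectivity from uniqueness of extensions of maps to fields. -/
theorem universallyInjective_of_field
    (h : ∀ (K : Type u) [Field K] (g g' : B →+* K), g.comp φ = g'.comp φ → g = g') :
    UniversallyInjective (Spec.map (CommRingCat.ofHom φ)) := by
  rw [(tfae_universallyInjective _).out 0 1 (a := UniversallyInjective _)]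
  intro K hK a b hab
  letI := hK
  obtain ⟨g, rfl⟩ := Spec.map_surjective a
  obtain ⟨g', rfl⟩ := Spec.map_surjective b
  simp only [← Spec.map_comp] at hab
  exact congrArg Spec.map (CommRingCat.hom_ext (h K g.hom g'.hom congr($(Spec.map_injective hab).hom)))

theorem eq_of_inj2_rad (h₁ : Inj2 φ) (h₂ : Rad φ) (K : Type u) [Field K] (g g' : B →+* K)
    (h : g.comp φ = g'.comp φ) : g = g' := by
  have hA : ∀ a, g (φ a) = g' (φ a) := fun a => RingHom.congr_fun h a
  have hq : RingHom.ker g = RingHom.ker g' :=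
    h₁ _ _ (RingHom.ker_isPrime g) (RingHom.ker_isPrime g') (by
      ext a; simp only [Ideal.mem_comap, RingHom.mem_ker, hA])
  have key : ∀ b, ResAt φ (RingHom.ker g) b → g b = g' b := by
    rintro b ⟨a, s, hs, hb⟩
    have h1 : g (φ s) * g b = g (φ a) := by
      rw [← map_mul, ← sub_eq_zero, ← map_sub]; exact hb
    have h2 : g' (φ s) * g' b = g' (φ a) := by
      rw [← map_mul, ← sub_eq_zero, ← map_sub]
      exact (RingHom.mem_ker).mp (hq ▸ hb)
    rw [← hA, ← hA, ← h1] at h2
    exact (mul_left_cancel₀ (fun h0 => hs h0) h2).symm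
  ext b
  rcases h₂ _ (RingHom.ker_isPrime g) b with hb | ⟨p, hp, hpq, n, hb⟩
  · exact key b hb
  · haveI : Fact p.Prime := ⟨hp⟩
    have hp0 : (p : K) = 0 := by rw [← map_natCast g]; exact hpq
    haveI : CharP K p := CharP.ringChar_of_prime_eq_zero hp hp0 ▸ ringChar.charP K
    refine iterateFrobenius_inj K p n ?_
    simpa [iterateFrobenius_def] using key _ hb

theorem universallyInjective_of_inj2_rad (h₁ : Inj2 φ) (h₂ : Rad φ) :
    UniversallyInjective (Spec.map (CommRingCat.ofHom φ)) :=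
  universallyInjective_of_field φ fun K _ => eq_of_inj2_rad φ h₁ h₂ K

/-- Evaluation at a point of an affine scheme. -/
noncomputable def ev (R : CommRingCat.{u}) (x : Spec R) : R →+* (Spec R).residueField x :=
  ((Scheme.ΓSpecIso R).inv ≫ (Spec R).Γevaluation x).hom

theorem ev_eq (R : CommRingCat.{u}) (x : Spec R) :
    ev R x = (CommRingCat.ofHom (algebraMap R x.asIdeal.ResidueField) ≫
      (Scheme.Spec.residueFieldIso R x).inv).hom := by
  rw [Scheme.Spec.algebraMap_residueFieldIso_inv]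
  rfl

theorem ev_eq_zero (R : CommRingCat.{u}) (x : Spec R) (r : R) :
    ev R x r = 0 ↔ r ∈ x.asIdeal := by
  rw [ev_eq, ← Ideal.algebraMap_residueField_eq_zero]
  exact map_eq_zero_iff _ (Scheme.Spec.residueFieldIso R x).symm.commRingCatIsoToRingEquiv.injective

theorem exists_ev (R : CommRingCat.{u}) (x : Spec R) (z : (Spec R).residueField x) :
    ∃ a s : R, s ∉ x.asIdeal ∧ ev R x s * z = ev R x a := by
  obtain ⟨z, rfl⟩ : ∃ w, (Scheme.Spec.residueFieldIso R x).inv w = z :=
    ⟨_, (Scheme.Spec.residueFieldIso R x).hom_inv_id_apply z⟩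
  obtain ⟨a, s, hs, rfl⟩ :=
    IsFractionRing.div_surjective (A := R ⧸ x.asIdeal) z
  obtain ⟨a, rfl⟩ := Ideal.Quotient.mk_surjective a
  obtain ⟨s, rfl⟩ := Ideal.Quotient.mk_surjective s
  have hs' : s ∉ x.asIdeal := fun h =>
    nonZeroDivisors.ne_zero hs (Ideal.Quotient.eq_zero_iff_mem.mpr h)
  refine ⟨a, s, hs', ?_⟩
  rw [ev_eq]
  show (Scheme.Spec.residueFieldIso R x).inv _ * (Scheme.Spec.residueFieldIso R x).inv _ =
    (Scheme.Spec.residueFieldIso R x).inv _
  rw [← map_mul]
  congr 1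
  show algebraMap R x.asIdeal.ResidueField s *
    (algebraMap R x.asIdeal.ResidueField a / algebraMap R x.asIdeal.ResidueField s) =
    algebraMap R x.asIdeal.ResidueField a
  exact mul_div_cancel₀ _ (fun h => hs' (Ideal.algebraMap_residueField_eq_zero.mp h))

theorem residueFieldMap_ev (x : Spec (CommRingCat.of B)) (a : A) :
    (Spec.map (CommRingCat.ofHom φ)).residueFieldMap x
        (ev (CommRingCat.of A) (Spec.map (CommRingCat.ofHom φ) x) a) =
      ev (CommRingCat.of B) x (φ a) := by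
  refine (Scheme.Γevaluation_naturality_apply (Spec.map (CommRingCat.ofHom φ)) x
    ((Scheme.ΓSpecIso (CommRingCat.of A)).inv a)).trans ?_
  exact congrArg ((Spec (CommRingCat.of B)).Γevaluation x)
    congr($(Scheme.ΓSpecIso_inv_naturality (CommRingCat.ofHom φ)) a).symm

theorem resAt_iff (x : Spec (CommRingCat.of B)) (b : B) :
    ResAt φ x.asIdeal b ↔
      ∃ z, (Spec.map (CommRingCat.ofHom φ)).residueFieldMap x z = ev (CommRingCat.of B) x b := by
  let f := Spec.map (CommRingCat.ofHom φ)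
  let eA := ev (CommRingCat.of A) (f x)
  let eB := ev (CommRingCat.of B) x
  constructor
  · rintro ⟨a, s, hs, hb⟩
    refine ⟨eA a / eA s, ?_⟩
    rw [map_div₀, show f.residueFieldMap x (eA a) = eB (φ a) from residueFieldMap_ev φ x a,
      show f.residueFieldMap x (eA s) = eB (φ s) from residueFieldMap_ev φ x s]
    have h0 : eB (φ s) ≠ 0 := fun h => hs ((ev_eq_zero _ x _).mp h)
    have h1 : eB (φ s) * eB b = eB (φ a) := by
      rw [← map_mul, ← sub_eq_zero, ← map_sub, ev_eq_zero]; exact hb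
    rw [div_eq_iff h0, ← h1, mul_comm]
  · rintro ⟨z, hz⟩
    obtain ⟨a, s, hs, h⟩ := exists_ev (CommRingCat.of A) (f x) z
    refine ⟨a, s, hs, (ev_eq_zero (CommRingCat.of B) x _).mp ?_⟩
    have h' := congrArg (f.residueFieldMap x) h
    rw [map_mul, show f.residueFieldMap x (eA a) = eB (φ a) from residueFieldMap_ev φ x a,
      show f.residueFieldMap x (eA s) = eB (φ s) from residueFieldMap_ev φ x s, hz] at h'
    rw [map_sub, map_mul]
    exact sub_eq_zero.mpr h'

theorem forall_residueFieldMap_surjective_iff :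
    (∀ x : Spec (CommRingCat.of B),
      Function.Surjective ((Spec.map (CommRingCat.ofHom φ)).residueFieldMap x)) ↔ Res φ := by
  refine ⟨fun h q hq b => (resAt_iff φ ⟨q, hq⟩ b).mpr (h _ _), fun h x w => ?_⟩
  obtain ⟨c, t, ht, hc⟩ := exists_ev (CommRingCat.of B) x w
  obtain ⟨z₁, h₁⟩ := (resAt_iff φ x c).mp (h _ x.isPrime c)
  obtain ⟨z₂, h₂⟩ := (resAt_iff φ x t).mp (h _ x.isPrime t)
  refine ⟨z₁ / z₂, ?_⟩
  rw [map_div₀, h₁, h₂, div_eq_iff (fun h0 => ht ((ev_eq_zero _ x _).mp h0)), ← hc, mul_comm]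

theorem rad_inj2_of_universallyInjective
    (h : UniversallyInjective (Spec.map (CommRingCat.ofHom φ))) : Inj2 φ ∧ Rad φ := by
  obtain ⟨hinj, hres⟩ :=
    ((tfae_universallyInjective (Spec.map (CommRingCat.ofHom φ))).out 0 2).mp h
  refine ⟨fun q q' hq hq' e => congrArg PrimeSpectrum.asIdeal
    (hinj (a₁ := ⟨q, hq⟩) (a₂ := ⟨q', hq'⟩) (PrimeSpectrum.ext e)), fun q hq b => ?_⟩
  let x : Spec (CommRingCat.of B) := ⟨q, hq⟩
  let f := Spec.map (CommRingCat.ofHom φ)
  letI : Algebra ((Spec (CommRingCat.of A)).residueField (f x))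
      ((Spec (CommRingCat.of B)).residueField x) := (f.residueFieldMap x).hom.toAlgebra
  haveI : IsPurelyInseparable ((Spec (CommRingCat.of A)).residueField (f x))
      ((Spec (CommRingCat.of B)).residueField x) := hres x
  let K := (Spec (CommRingCat.of A)).residueField (f x)
  obtain ⟨p, hpK⟩ := ExpChar.exists K
  haveI := hpK
  obtain ⟨n, z, hz⟩ := IsPurelyInseparable.pow_mem K p (ev (CommRingCat.of B) x b)
  rw [← map_pow] at hz
  have hb := (resAt_iff φ x (b ^ p ^ n)).mpr ⟨z, hz⟩
  rcases hpK with _ | ⟨hp⟩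
  · refine Or.inl ?_
    rwa [one_pow, pow_one] at hb
  · refine Or.inr ⟨p, hp, (ev_eq_zero (CommRingCat.of B) x _).mp ?_, n, hb⟩
    rw [map_natCast, ← map_natCast (f.residueFieldMap x).hom, CharP.cast_eq_zero, map_zero]

theorem surjective_iff :
    Surjective (Spec.map (CommRingCat.ofHom φ)) ↔
      ∀ p : Ideal A, p.IsPrime → ∃ q : Ideal B, q.IsPrime ∧ q.comap φ = p := by
  refine ⟨fun h p hp => ?_, fun h => ⟨fun y => ?_⟩⟩
  · obtain ⟨x, hx⟩ := h.1 ⟨p, hp⟩
    exact ⟨x.asIdeal, x.isPrime, congrArg PrimeSpectrum.asIdeal hx⟩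
  · obtain ⟨q, hq, e⟩ := h y.asIdeal y.isPrime
    exact ⟨⟨q, hq⟩, PrimeSpectrum.ext e⟩

theorem exists_over_of_injective (hinj : Function.Injective φ) (hint : φ.IsIntegral)
    (p : Ideal A) [p.IsPrime] : ∃ q : Ideal B, q.IsPrime ∧ q.comap φ = p := by
  letI := φ.toAlgebra
  haveI : Algebra.IsIntegral A B := ⟨hint⟩
  obtain ⟨q, -, hq, e⟩ := Ideal.exists_ideal_over_prime_of_isIntegral (S := B) p ⊥
    (fun a ha => by
      have : φ a = 0 := ha
      rw [hinj (this.trans (map_zero φ).symm)]; exact p.zero_mem)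
  exact ⟨q, hq, e⟩

theorem surjective_of_injective (hinj : Function.Injective φ) (hint : φ.IsIntegral) :
    Surjective (Spec.map (CommRingCat.ofHom φ)) :=
  (surjective_iff φ).mpr fun p _ => exists_over_of_injective φ hinj hint p

end Ring

end Groth.Agent.UH
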