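import Groth.Agent.Lib.UnivHomeo.Main
import Mathlib.RingTheory.Localization.Away.Basic
import Mathlib.NumberTheory.Basic
import Mathlib.RingTheory.Adjoin.FG

/-!
Universal homeomorphisms which are isomorphisms after inverting a prime.
-/

universe u

open CategoryTheory AlgebraicGeometry

namespace Groth.Agent.UH

variable {A B : Type u} [CommRing A] [CommRing B] (φ : A →+* B) (p : ℕ)

theorem exists_pow_mul_mem (h : Function.Bijective (Localization.awayMap φ (p : A))) (b : B) :
    ∃ n : ℕ, (p : B) ^ n * b ∈ φ.range := by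
  obtain ⟨x, hx⟩ := h.2 (algebraMap B (Localization.Away (φ (p : A))) b)
  obtain ⟨⟨a, ⟨_, k, rfl⟩⟩, ha⟩ := IsLocalization.surj (Submonoid.powers (p : A)) x
  have h2 := congrArg (Localization.awayMap φ (p : A)) ha
  rw [map_mul, hx] at h2
  simp only [Localization.awayMap, IsLocalization.Away.map, IsLocalization.map_eq] at h2
  rw [← map_mul, IsLocalization.eq_iff_exists (Submonoid.powers (φ (p : A)))] at h2
  obtain ⟨⟨_, j, rfl⟩, hj⟩ := h2
  refine ⟨j + k, (p : A) ^ j * a, ?_⟩
  simp only [map_mul, map_pow, map_natCast] at hj ⊢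
  rw [← hj, pow_add]
  ring

theorem subset_range_of_pow_mul [Algebra A B] [Algebra.IsIntegral A B]
    (h : ∀ b : B, ∃ n : ℕ, (p : B) ^ n * b ∈ (algebraMap A B).range) (x y : B) :
    ∃ M : ℕ, ∀ z ∈ Algebra.adjoin A ({x, y} : Set B), (p : B) ^ M * z ∈ (algebraMap A B).range := by
  classical
  obtain ⟨G, hG⟩ := fg_adjoin_of_finite (R := A) (A := B) (Set.toFinite ({x, y} : Set B))
    fun z _ => Algebra.IsIntegral.isIntegral z
  choose n hn using h
  refine ⟨∑ g ∈ G, n g, fun z hz => ?_⟩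
  have hz' : z ∈ Submodule.span A (G : Set B) := hG.ge hz
  induction hz' using Submodule.span_induction with
  | mem g hg =>
    obtain ⟨j, hj⟩ := Nat.exists_eq_add_of_le (Finset.single_le_sum (fun i _ => Nat.zero_le (n i)) hg)
    rw [hj, add_comm, pow_add, mul_assoc]
    exact mul_mem (pow_mem (natCast_mem _ p) _) (hn g)
  | zero => rw [mul_zero]; exact zero_mem _
  | add a b ha hb iha ihb =>
    rw [mul_add]
    exact add_mem (iha (hG.le ha)) (ihb (hG.le hb))
  | smul c a ha iha =>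
    rw [Algebra.smul_def, mul_left_comm]
    exact mul_mem ⟨c, rfl⟩ (iha (hG.le ha))

theorem exists_pow_mem_range [Algebra A B] [Algebra.IsIntegral A B] (hp : p.Prime)
    (hmul : ∀ b : B, ∃ n : ℕ, (p : B) ^ n * b ∈ (algebraMap A B).range)
    (ht : HasTowers A B StepP) (b : B) : ∃ n : ℕ, b ^ p ^ n ∈ (algebraMap A B).range := by
  let R := (algebraMap A B).range
  have hmono : ∀ {z : B} {n N : ℕ}, n ≤ N → z ^ p ^ n ∈ R → z ^ p ^ N ∈ R := by
    intro z n N h hz
    obtain ⟨j, rfl⟩ := Nat.exists_eq_add_of_le h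
    rw [pow_add, pow_mul]
    exact pow_mem hz _
  let G : Subalgebra A B :=
    { carrier := {z | ∃ n : ℕ, z ^ p ^ n ∈ R}
      mul_mem' := by
        rintro x y ⟨m, hx⟩ ⟨n, hy⟩
        exact ⟨max m n, by
          rw [mul_pow]; exact mul_mem (hmono (le_max_left _ _) hx) (hmono (le_max_right _ _) hy)⟩
      add_mem' := by
        rintro x y ⟨m, hx⟩ ⟨n, hy⟩
        let N := max m n
        obtain ⟨M, hM⟩ := subset_range_of_pow_mul p hmul x y
        let S := Algebra.adjoin A ({x, y} : Set B)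
        let x' : S := ⟨x, Algebra.subset_adjoin (by simp)⟩
        let y' : S := ⟨y, Algebra.subset_adjoin (by simp)⟩
        have hd : (p : S) ∣ (x' + y') ^ p ^ N - (x' ^ p ^ N + y' ^ p ^ N) := by
          obtain ⟨r, hr⟩ := exists_add_pow_prime_pow_eq hp x' y' N
          exact ⟨x' * y' * r, by rw [hr]; ring⟩
        obtain ⟨w, hw⟩ := dvd_sub_pow_of_dvd_sub hd M
        refine ⟨N + M, ?_⟩
        rw [pow_add p N M, pow_mul]
        have hw' := congrArg Subtype.val hw
        push_cast at hw'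
        rw [eq_add_of_sub_eq hw']
        refine add_mem ?_ (pow_mem (add_mem (hmono (le_max_left _ _) hx) (hmono (le_max_right _ _) hy)) _)
        rw [pow_succ, mul_assoc]
        exact hM _ (mul_mem (natCast_mem _ p) w.2)
      algebraMap_mem' := fun a => ⟨0, by rw [pow_zero, pow_one]; exact ⟨a, rfl⟩⟩ }
  refine top_le_of_hasTowers ht G (fun T z hT hz => ?_) b
  rcases hz with ⟨h2, h3⟩ | ⟨q, hq, h1, h2⟩
  · obtain ⟨m, hm⟩ := hT h2
    obtain ⟨n, hn⟩ := hT h3
    let N := max m n
    have h2' : (z ^ p ^ N) ^ 2 ∈ R := by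
      rw [← pow_mul, mul_comm, pow_mul]; exact hmono (le_max_left _ _) hm
    have h3' : (z ^ p ^ N) ^ 3 ∈ R := by
      rw [← pow_mul, mul_comm, pow_mul]; exact hmono (le_max_right _ _) hn
    refine ⟨N + 1, ?_⟩
    rw [pow_succ, pow_mul]
    suffices he : ∀ e, 2 ≤ e → (z ^ p ^ N) ^ e ∈ R from he p hp.two_le
    intro e he
    rcases Nat.even_or_odd e with ⟨k, hk⟩ | ⟨k, hk⟩
    · rw [hk, ← two_mul, pow_mul]; exact pow_mem h2' _
    · obtain ⟨k', rfl⟩ : ∃ k', k = k' + 1 := ⟨k - 1, by omega⟩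
      rw [hk, show 2 * (k' + 1) + 1 = 2 * k' + 3 by ring, pow_add, pow_mul]
      exact mul_mem (pow_mem h2' _) h3'
  · by_cases hqp : q = p
    · obtain ⟨m, hm⟩ := hT h2
      subst hqp
      exact ⟨m + 1, by rw [pow_succ', pow_mul]; exact hm⟩
    · obtain ⟨m, hm⟩ := hmul z
      have hco : Nat.Coprime (p ^ m) q := Nat.Coprime.pow_left _ ((Nat.coprime_primes hp hq).mpr (Ne.symm hqp))
      obtain ⟨u, v, huv⟩ : ∃ u v : ℤ, u * (p ^ m : ℕ) + v * q = 1 :=
        Nat.isCoprime_iff_coprime.mpr hco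
      have e : z = (u : B) * ((p : B) ^ m * z) + (v : B) * ((q : B) * z) := by
        have := congrArg (fun i : ℤ => (i : B) * z) huv
        push_cast at this
        rw [one_mul] at this
        nth_rw 1 [← this]
        ring
      rw [e]
      obtain ⟨a, ha⟩ := hm
      exact add_mem (mul_mem (intCast_mem _ u) (ha ▸ G.algebraMap_mem a))
        (mul_mem (intCast_mem _ v) (hT h1))

theorem isUnivHomeo_Spec_iff_away (hp : p.Prime)
    (h : Function.Bijective (Localization.awayMap φ (p : A))) :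
    FlatMor.IsUnivHomeo (Spec.map (CommRingCat.ofHom φ)) ↔
      (∀ a ∈ RingHom.ker φ, IsNilpotent a) ∧
        ∀ b : B, ∃ n : ℕ, (p ^ n : B) * b ∈ φ.range ∧ b ^ (p ^ n) ∈ φ.range := by
  rw [isUnivHomeo_Spec_iff]
  constructor
  · rintro ⟨hint, ⟨h1, h2⟩, h3⟩
    refine ⟨fun a ha => nilpotent_iff_mem_prime.mpr fun P hP => ?_, fun b => ?_⟩
    · obtain ⟨q, hq, rfl⟩ := h3 P hP
      show φ a ∈ q
      rw [RingHom.mem_ker.mp ha]; exact q.zero_mem
    · let A' := φ.range
      haveI : Algebra.IsIntegral A' B := ⟨fun x => by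
        letI := φ.toAlgebra
        letI : Algebra A A' := φ.rangeRestrict.toAlgebra
        haveI : IsScalarTower A A' B := IsScalarTower.of_algebraMap_eq fun _ => rfl
        exact IsIntegral.tower_top (hint x)⟩
      have hres : ∀ q b, ResAt φ q b → ResAt (algebraMap A' B) q b :=
        fun q b ⟨a, s, hs, hx⟩ => ⟨φ.rangeRestrict a, φ.rangeRestrict s, hs, hx⟩
      have ht : HasTowers A' B StepP := hasTowers_stepP_of inferInstance
        (fun q q' hq hq' e => h1 q q' hq hq' (by
          ext a; exact SetLike.ext_iff.mp e (φ.rangeRestrict a)))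
        (fun q hq x => (h2 q hq x).imp (hres q x)
          fun ⟨r, hr, hrq, n, hn⟩ => ⟨r, hr, hrq, n, hres q _ hn⟩)
      have hmul : ∀ b : B, ∃ n : ℕ, (p : B) ^ n * b ∈ (algebraMap A' B).range := fun b => by
        obtain ⟨n, hn⟩ := exists_pow_mul_mem φ p h b
        exact ⟨n, ⟨⟨_, hn⟩, rfl⟩⟩
      obtain ⟨m, hm⟩ := exists_pow_mem_range p hp hmul ht b
      obtain ⟨n, hn⟩ := exists_pow_mul_mem φ p h b
      obtain ⟨⟨c, hc⟩, hc'⟩ := hm
      have hc'' : b ^ p ^ m ∈ φ.range := by rw [← hc']; exact hc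
      refine ⟨max m n, ?_, ?_⟩
      · obtain ⟨j, hj⟩ := Nat.exists_eq_add_of_le (le_max_right m n)
        rw [hj, add_comm, pow_add, mul_assoc]
        exact mul_mem (pow_mem (natCast_mem _ p) _) hn
      · obtain ⟨j, hj⟩ := Nat.exists_eq_add_of_le (le_max_left m n)
        rw [hj, pow_add, pow_mul]
        exact pow_mem hc'' _
  · rintro ⟨hk, hb⟩
    have hint : φ.IsIntegral := fun b => by
      obtain ⟨n, -, a, ha⟩ := hb b
      letI := φ.toAlgebra
      exact IsIntegral.of_pow (pow_pos hp.pos n) (ha ▸ isIntegral_algebraMap (R := A) (x := a))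
    refine ⟨hint, rad_inj2_of_universallyInjective φ (universallyInjective_of_field φ fun K _ g g' hg => ?_),
      fun P hP => ?_⟩
    · have hA : ∀ a, g (φ a) = g' (φ a) := RingHom.congr_fun hg
      ext b
      obtain ⟨n, ⟨a, ha⟩, ⟨c, hc⟩⟩ := hb b
      by_cases hp0 : (p : K) = 0
      · haveI : Fact p.Prime := ⟨hp⟩
        haveI : CharP K p := CharP.ringChar_of_prime_eq_zero hp hp0 ▸ ringChar.charP K
        refine iterateFrobenius_inj K p n ?_
        simp only [iterateFrobenius_def, ← map_pow, ← hc, hA]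
      · refine mul_left_cancel₀ (pow_ne_zero n hp0) ?_
        have := hA a
        rw [ha] at this
        simpa using this
    · letI := φ.toAlgebra
      haveI : Algebra.IsIntegral A B := ⟨hint⟩
      obtain ⟨q, -, hq, e⟩ := Ideal.exists_ideal_over_prime_of_isIntegral (S := B) P ⊥
        (fun a ha => by
          obtain ⟨n, hn⟩ := hk a ha
          exact hP.mem_of_pow_mem n (hn ▸ P.zero_mem))
      exact ⟨q, hq, e⟩

end Groth.Agent.UH
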