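import Groth.Agent.Lib.UnivHomeo.Good
import Mathlib.RingTheory.FinitePresentation
import Mathlib.CategoryTheory.Comma.Over.Basic
import Mathlib.CategoryTheory.Filtered.Basic
import Mathlib.Algebra.Category.Ring.Basic

/-!
A universally homeomorphic algebra is a filtered colimit of finitely presented ones.
-/

universe u

open CategoryTheory AlgebraicGeometry Limits
open scoped TensorProduct

noncomputable section

namespace Groth.Agent.UH

variable {A B : Type u} [CommRing A] [CommRing B] [Algebra A B] {r : Prop}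

variable (A B r) in
/-- A finitely presented good algebra mapping to `B`. -/
structure Mdl : Type u where
  n : ℕ
  I : Ideal (MvPolynomial (Fin n) A)
  fg : I.FG
  g : (MvPolynomial (Fin n) A ⧸ I) →ₐ[A] B
  good : Good r (algebraMap A (MvPolynomial (Fin n) A ⧸ I))

/-- The algebra of a model. -/
abbrev Mdl.R (X : Mdl A B r) : Type u := MvPolynomial (Fin X.n) A ⧸ X.I

instance (X : Mdl A B r) : Algebra.FinitePresentation A X.R :=
  Algebra.FinitePresentation.quotient X.fg

theorem Mdl.exists_of {C : Type u} [CommRing C] [Algebra A C] [Algebra.FinitePresentation A C]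
    (h : Good r (algebraMap A C)) (g : C →ₐ[A] B) :
    ∃ (X : Mdl A B r) (e : C ≃ₐ[A] X.R), X.g.comp e.toAlgHom = g := by
  obtain ⟨n, f, hf, hker⟩ := Algebra.FinitePresentation.out (R := A) (A := C)
  let e : (MvPolynomial (Fin n) A ⧸ RingHom.ker f) ≃ₐ[A] C :=
    Ideal.quotientKerAlgEquivOfSurjective hf
  refine ⟨⟨n, RingHom.ker f, hker, g.comp e.toAlgHom, ?_⟩, e.symm, AlgHom.ext fun c => ?_⟩
  · rw [show algebraMap A (MvPolynomial (Fin n) A ⧸ RingHom.ker f) =
      e.symm.toRingEquiv.toRingHom.comp (algebraMap A C) from (e.symm.toAlgHom.comp_algebraMap).symm]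
    exact good_comp h (good_equiv r _)
  · show g (e (e.symm c)) = g c
    rw [e.apply_symm_apply]

/-- A morphism of models. -/
@[ext]
structure MdlHom (X Y : Mdl A B r) : Type u where
  f : X.R →ₐ[A] Y.R
  w : Y.g.comp f = X.g

instance : SmallCategory (Mdl A B r) where
  Hom := MdlHom
  id X := ⟨AlgHom.id A _, AlgHom.comp_id _⟩
  comp p q := ⟨q.f.comp p.f, by rw [← AlgHom.comp_assoc, q.w, p.w]⟩

theorem MdlHom.w_apply {X Y : Mdl A B r} (p : X ⟶ Y) (x : X.R) : Y.g (p.f x) = X.g x :=
  DFunLike.congr_fun p.w x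

instance : Nonempty (Mdl A B r) :=
  let ⟨X, _, _⟩ := Mdl.exists_of (r := r) (good_id (A := A) r) (Algebra.ofId A B)
  ⟨X⟩

theorem exists_bound (X Y : Mdl A B r) : ∃ Z, Nonempty (X ⟶ Z) ∧ Nonempty (Y ⟶ Z) := by
  haveI : Algebra.FinitePresentation A (X.R ⊗[A] Y.R) :=
    Algebra.FinitePresentation.trans A X.R (X.R ⊗[A] Y.R)
  have h : Good r (algebraMap A (X.R ⊗[A] Y.R)) := by
    rw [IsScalarTower.algebraMap_eq A X.R (X.R ⊗[A] Y.R)]
    exact good_comp X.good (good_tensor Y.good)
  obtain ⟨Z, e, he⟩ :=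
    Mdl.exists_of h (Algebra.TensorProduct.lift X.g Y.g fun a b => Commute.all _ _)
  refine ⟨Z, ⟨⟨e.toAlgHom.comp Algebra.TensorProduct.includeLeft, ?_⟩⟩,
    ⟨⟨e.toAlgHom.comp Algebra.TensorProduct.includeRight, ?_⟩⟩⟩
  · rw [← AlgHom.comp_assoc, he, Algebra.TensorProduct.lift_comp_includeLeft]
  · rw [← AlgHom.comp_assoc, he]
    exact AlgHom.ext fun y => by simp

variable (hB : Good r (algebraMap A B))

include hB in
theorem isNilpotent_of_g_eq_zero (X : Mdl A B r) {c : X.R} (hc : X.g c = 0) : IsNilpotent c := by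
  refine nilpotent_iff_mem_prime.mpr fun q hq => ?_
  obtain ⟨Q, hQ, e⟩ := hB.over (q.comap (algebraMap A X.R)) inferInstance
  rw [← X.good.inj2 (Q.comap X.g.toRingHom) q inferInstance hq
    (by rw [Ideal.comap_comap, AlgHom.toRingHom_eq_coe, X.g.comp_algebraMap, e])]
  show X.g c ∈ Q
  rw [hc]; exact Q.zero_mem

include hB in
theorem exists_kill (X : Mdl A B r) (E : Finset X.R) (hE : ∀ c ∈ E, X.g c = 0) :
    ∃ (Y : Mdl A B r) (p : X ⟶ Y), ∀ c ∈ E, p.f c = 0 := by
  let J : Ideal X.R := Ideal.span (E : Set X.R)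
  have hJ : J ≤ RingHom.ker X.g.toRingHom := Ideal.span_le.mpr fun c hc => hE c hc
  haveI : Algebra.FinitePresentation A (X.R ⧸ J) :=
    Algebra.FinitePresentation.quotient ⟨E, rfl⟩
  have h : Good r (algebraMap A (X.R ⧸ J)) := by
    rw [show algebraMap A (X.R ⧸ J) = (Ideal.Quotient.mk J).comp (algebraMap A X.R) from rfl]
    refine good_comp X.good (good_of_surjective r Ideal.Quotient.mk_surjective fun a ha => ?_)
    exact isNilpotent_of_g_eq_zero hB X (hJ (Ideal.Quotient.eq_zero_iff_mem.mp ha))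
  obtain ⟨Y, e, he⟩ := Mdl.exists_of h (Ideal.Quotient.liftₐ J X.g fun a ha => hJ ha)
  refine ⟨Y, ⟨e.toAlgHom.comp (Ideal.Quotient.mkₐ A J), ?_⟩, fun c hc => ?_⟩
  · rw [← AlgHom.comp_assoc, he]
    exact AlgHom.ext fun x => rfl
  · show e (Ideal.Quotient.mk J c) = 0
    rw [Ideal.Quotient.eq_zero_iff_mem.mpr (Ideal.subset_span hc), map_zero]

include hB in
theorem isFiltered_mdl : IsFiltered (Mdl A B r) := by
  haveI : IsFilteredOrEmpty (Mdl A B r) :=
    { cocone_objs := fun X Y => by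
        obtain ⟨Z, ⟨p⟩, ⟨q⟩⟩ := exists_bound X Y
        exact ⟨Z, p, q, trivial⟩
      cocone_maps := fun X Y p q => by
        classical
        let x : Fin X.n → X.R := fun i => Ideal.Quotient.mk X.I (MvPolynomial.X i)
        obtain ⟨Z, w, hw⟩ := exists_kill hB Y (Finset.univ.image fun i => p.f (x i) - q.f (x i))
          (by
            simp only [Finset.mem_image, Finset.mem_univ, true_and, forall_exists_index,
              forall_apply_eq_imp_iff]
            intro i
            rw [map_sub, p.w_apply, q.w_apply, sub_self])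
        refine ⟨Z, w, MdlHom.ext ?_⟩
        refine Ideal.Quotient.algHom_ext _ (MvPolynomial.algHom_ext fun i => ?_)
        have := hw _ (Finset.mem_image_of_mem _ (Finset.mem_univ i))
        rw [map_sub, sub_eq_zero] at this
        exact this }
  exact ⟨⟩

/-- `B` as receiving the models. -/
def Covered (b : B) : Prop := ∃ (X : Mdl A B r) (x : X.R), X.g x = b

include hB in
/-- Adjoining a solution of one step to a model. -/
theorem covered_of_polynomial {C : Type u} [CommRing C] [Algebra A C]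
    [Algebra.FinitePresentation A C] (hC : Good r (algebraMap A C)) (g : C →ₐ[A] B)
    (S : Finset (Polynomial C)) (b : B) (hS : ∀ P ∈ S, Polynomial.aevalTower g b P = 0)
    (hgood : Good r (algebraMap C (Polynomial C ⧸ Ideal.span (S : Set (Polynomial C))))) :
    Covered (r := r) (A := A) b := by
  let J := Ideal.span (S : Set (Polynomial C))
  haveI : Algebra.FinitePresentation C (Polynomial C ⧸ J) :=
    Algebra.FinitePresentation.quotient ⟨S, rfl⟩
  haveI : Algebra.FinitePresentation A (Polynomial C ⧸ J) :=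
    Algebra.FinitePresentation.trans A C _
  have h : Good r (algebraMap A (Polynomial C ⧸ J)) := by
    rw [IsScalarTower.algebraMap_eq A C (Polynomial C ⧸ J)]
    exact good_comp hC hgood
  have hJ : J ≤ RingHom.ker (Polynomial.aevalTower g b).toRingHom :=
    Ideal.span_le.mpr fun P hP => hS P hP
  obtain ⟨Y, e, he⟩ :=
    Mdl.exists_of h (Ideal.Quotient.liftₐ J (Polynomial.aevalTower g b) fun a ha => hJ ha)
  refine ⟨Y, e (Ideal.Quotient.mk J Polynomial.X), ?_⟩
  refine (DFunLike.congr_fun he (Ideal.Quotient.mk J Polynomial.X)).trans ?_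
  exact Polynomial.aevalTower_X _ _

theorem good_sq_cube {R : Type u} [CommRing R] (x y : R) (h : x ^ 3 = y ^ 2) :
    Good r (algebraMap R (Polynomial R ⧸ Ideal.span
      ({Polynomial.X ^ 2 - Polynomial.C x, Polynomial.X ^ 3 - Polynomial.C y} : Set (Polynomial R)))) := by
  let I : Ideal (Polynomial R) :=
    Ideal.span ({Polynomial.X ^ 2 - Polynomial.C x, Polynomial.X ^ 3 - Polynomial.C y} : Set (Polynomial R))
  let t : Polynomial R ⧸ I := Ideal.Quotient.mk I Polynomial.X
  have h2 : t ^ 2 = algebraMap R _ x := by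
    rw [← map_pow]; exact Ideal.Quotient.eq.mpr (Ideal.subset_span (Or.inl rfl))
  have h3 : t ^ 3 = algebraMap R _ y := by
    rw [← map_pow]; exact Ideal.Quotient.eq.mpr (Ideal.subset_span (Or.inr rfl))
  have hT : HasTowers R (Polynomial R ⧸ I) StepSC :=
    hasTowers_singleton t (adjoin_mk_X I)
      ⟨Algebra.mem_bot.mpr ⟨x, h2.symm⟩, Algebra.mem_bot.mpr ⟨y, h3.symm⟩⟩
  have hP := hT.mono fun _ _ => stepP_of_stepSC
  refine ⟨(isIntegral_of_hasTowers hP).isIntegral, fun K _ => eq_of_hasTowers hP K,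
    surjective_of_algClosed _ fun K _ _ g => ?_, fun _ => res_of_hasTowers hT⟩
  have hxy : g x ^ 3 = g y ^ 2 := by rw [← map_pow, ← map_pow, h]
  obtain ⟨z, hz2, hz3⟩ : ∃ z : K, z ^ 2 = g x ∧ z ^ 3 = g y := by
    by_cases h0 : g x = 0
    · refine ⟨0, by simp [h0], ?_⟩
      rw [h0, zero_pow three_ne_zero] at hxy
      simp [eq_zero_of_pow_eq_zero hxy.symm]
    · refine ⟨g y / g x, ?_, ?_⟩
      · rw [div_pow, ← hxy, pow_succ (g x) 2, mul_div_cancel_left₀ _ (pow_ne_zero 2 h0)]
      · rw [div_pow, hxy, pow_succ (g y) 2, mul_div_cancel_left₀ _ (fun hy => h0 ?_)]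
        exact eq_zero_of_pow_eq_zero (hxy.trans hy)
  refine ⟨Ideal.Quotient.lift I (Polynomial.eval₂RingHom g z) ?_,
    RingHom.ext fun a => Polynomial.eval₂_C g z⟩
  intro q hq
  have : I ≤ RingHom.ker (Polynomial.eval₂RingHom g z) := by
    rw [Ideal.span_le]
    rintro _ (rfl | rfl) <;> simp [RingHom.mem_ker, hz2, hz3]
  exact this hq

theorem good_pth_root (hr : ¬ r) {R : Type u} [CommRing R] (p : ℕ) (hp : p.Prime) (x y : R)
    (h : (p : R) ^ p * x = y ^ p) :
    Good r (algebraMap R (Polynomial R ⧸ Ideal.span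
      ({Polynomial.X ^ p - Polynomial.C x, Polynomial.C (p : R) * Polynomial.X - Polynomial.C y} :
        Set (Polynomial R)))) := by
  let I : Ideal (Polynomial R) := Ideal.span
    ({Polynomial.X ^ p - Polynomial.C x, Polynomial.C (p : R) * Polynomial.X - Polynomial.C y} :
      Set (Polynomial R))
  let t : Polynomial R ⧸ I := Ideal.Quotient.mk I Polynomial.X
  have h1 : t ^ p = algebraMap R _ x := by
    rw [← map_pow]; exact Ideal.Quotient.eq.mpr (Ideal.subset_span (Or.inl rfl))
  have h2 : (p : Polynomial R ⧸ I) * t = algebraMap R _ y := by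
    rw [← map_natCast (Ideal.Quotient.mk I), ← map_mul, ← map_natCast Polynomial.C]
    exact Ideal.Quotient.eq.mpr (Ideal.subset_span (Or.inr rfl))
  have hT : HasTowers R (Polynomial R ⧸ I) StepP :=
    hasTowers_singleton t (adjoin_mk_X I)
      (Or.inr ⟨p, hp, Algebra.mem_bot.mpr ⟨y, h2.symm⟩, Algebra.mem_bot.mpr ⟨x, h1.symm⟩⟩)
  refine ⟨(isIntegral_of_hasTowers hT).isIntegral, fun K _ => eq_of_hasTowers hT K,
    surjective_of_algClosed _ fun K _ _ g => ?_, fun h' => absurd h' hr⟩
  have hxy : (p : K) ^ p * g x = g y ^ p := by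
    rw [← map_natCast g, ← map_pow, ← map_pow, ← map_mul, h]
  obtain ⟨z, hz1, hz2⟩ : ∃ z : K, z ^ p = g x ∧ (p : K) * z = g y := by
    by_cases h0 : (p : K) = 0
    · obtain ⟨z, hz⟩ := IsAlgClosed.exists_pow_nat_eq (g x) hp.pos
      refine ⟨z, hz, ?_⟩
      rw [h0, zero_pow hp.ne_zero, zero_mul] at hxy
      rw [h0, zero_mul, eq_zero_of_pow_eq_zero hxy.symm]
    · exact ⟨g y / p, by rw [div_pow, ← hxy, mul_div_cancel_left₀ _ (pow_ne_zero p h0)],
        mul_div_cancel₀ _ h0⟩
  refine ⟨Ideal.Quotient.lift I (Polynomial.eval₂RingHom g z) ?_,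
    RingHom.ext fun a => Polynomial.eval₂_C g z⟩
  intro q hq
  have : I ≤ RingHom.ker (Polynomial.eval₂RingHom g z) := by
    rw [Ideal.span_le]
    rintro _ (rfl | rfl) <;> simp [RingHom.mem_ker, hz1, hz2]
  exact this hq

include hB in
theorem covered_of_sq_cube {b : B} (h2 : Covered (r := r) (A := A) (b ^ 2))
    (h3 : Covered (r := r) (A := A) (b ^ 3)) : Covered (r := r) (A := A) b := by
  obtain ⟨X, x, hx⟩ := h2
  obtain ⟨Y, y, hy⟩ := h3
  obtain ⟨Z, ⟨p⟩, ⟨q⟩⟩ := exists_bound X Y
  obtain ⟨W, w, hw⟩ := exists_kill hB Z {p.f x ^ 3 - q.f y ^ 2} (by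
    intro c hc
    rw [Finset.mem_singleton] at hc
    rw [hc, map_sub, map_pow, map_pow, p.w_apply, q.w_apply, hx, hy, ← pow_mul, ← pow_mul,
      sub_self])
  have hxy : w.f (p.f x) ^ 3 = w.f (q.f y) ^ 2 := by
    rw [← sub_eq_zero]
    simpa using hw _ (Finset.mem_singleton_self _)
  classical
  refine covered_of_polynomial hB (C := W.R) W.good W.g {Polynomial.X ^ 2 - Polynomial.C (w.f (p.f x)),
    Polynomial.X ^ 3 - Polynomial.C (w.f (q.f y))} b ?_ ?_
  · intro P hP
    simp only [Finset.mem_insert, Finset.mem_singleton] at hP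
    rcases hP with rfl | rfl <;>
      simp [p.w_apply, q.w_apply, w.w_apply, hx, hy]
  · rw [Finset.coe_pair]
    exact good_sq_cube _ _ hxy

include hB in
theorem covered_of_prime (hr : ¬ r) {b : B} {p : ℕ} (hp : p.Prime)
    (h1 : Covered (r := r) (A := A) ((p : B) * b))
    (h2 : Covered (r := r) (A := A) (b ^ p)) : Covered (r := r) (A := A) b := by
  obtain ⟨X, y, hy⟩ := h1
  obtain ⟨Y, x, hx⟩ := h2
  obtain ⟨Z, ⟨f⟩, ⟨g⟩⟩ := exists_bound X Y
  obtain ⟨W, w, hw⟩ := exists_kill hB Z {(p : Z.R) ^ p * g.f x - f.f y ^ p} (by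
    intro c hc
    rw [Finset.mem_singleton] at hc
    rw [hc, map_sub, map_mul, map_pow, map_pow, map_natCast, f.w_apply, g.w_apply, hx, hy,
      mul_pow, sub_self])
  have hxy : (p : W.R) ^ p * w.f (g.f x) = w.f (f.f y) ^ p := by
    rw [← sub_eq_zero]
    simpa using hw _ (Finset.mem_singleton_self _)
  classical
  refine covered_of_polynomial hB (C := W.R) W.good W.g {Polynomial.X ^ p - Polynomial.C (w.f (g.f x)),
    Polynomial.C (p : W.R) * Polynomial.X - Polynomial.C (w.f (f.f y))} b ?_ ?_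
  · intro P hP
    simp only [Finset.mem_insert, Finset.mem_singleton] at hP
    rcases hP with rfl | rfl <;>
      simp [f.w_apply, g.w_apply, w.w_apply, hx, hy]
  · rw [Finset.coe_pair]
    exact good_pth_root hr p hp _ _ hxy

include hB in
theorem covered_all (b : B) : Covered (r := r) (A := A) b := by
  let T : Subalgebra A B :=
    { carrier := {b | Covered (r := r) (A := A) b}
      mul_mem' := by
        rintro _ _ ⟨X, x, rfl⟩ ⟨Y, y, rfl⟩
        obtain ⟨Z, ⟨p⟩, ⟨q⟩⟩ := exists_bound X Y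
        exact ⟨Z, p.f x * q.f y, by rw [map_mul, p.w_apply, q.w_apply]⟩
      add_mem' := by
        rintro _ _ ⟨X, x, rfl⟩ ⟨Y, y, rfl⟩
        obtain ⟨Z, ⟨p⟩, ⟨q⟩⟩ := exists_bound X Y
        exact ⟨Z, p.f x + q.f y, by rw [map_add, p.w_apply, q.w_apply]⟩
      algebraMap_mem' := fun a =>
        let ⟨X⟩ := (inferInstance : Nonempty (Mdl A B r))
        ⟨X, algebraMap A _ a, X.g.commutes a⟩ }
  suffices hT : T = ⊤ from hT.ge (Algebra.mem_top (R := A) (x := b))
  by_contra hne
  haveI : Algebra.IsIntegral T B := ⟨fun x => IsIntegral.tower_top (A := T) (hB.integral x)⟩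
  have hns : ¬ Function.Surjective (algebraMap T B) := fun hs =>
    hne (eq_top_iff.mpr fun x _ => by obtain ⟨y, rfl⟩ := hs x; exact y.2)
  have h1 : Inj2 (algebraMap T B) := fun q q' hq hq' e => hB.inj2 q q' hq hq' (by
    ext a; exact SetLike.ext_iff.mp e (algebraMap A T a))
  have hres : ∀ q b, ResAt (algebraMap A B) q b → ResAt (algebraMap T B) q b :=
    fun q b ⟨a, s, hs, hx⟩ => ⟨algebraMap A T a, algebraMap A T s, hs, hx⟩
  by_cases hr : r
  · obtain ⟨b, hb, ⟨c, hc⟩, ⟨d, hd⟩⟩ := exists_sq_cube (A := T) (B := B) Subtype.val_injective hns h1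
      fun q hq x => hres q x (hB.res hr q hq x)
    exact hb ⟨⟨b, covered_of_sq_cube hB (hc ▸ c.2) (hd ▸ d.2)⟩, rfl⟩
  · obtain ⟨-, h2⟩ := rad_inj2_of_universallyInjective _ (universallyInjective_of_field _ hB.field)
    rcases exists_sq_cube_or_prime (A := T) (B := B) Subtype.val_injective hns h1
      (fun q hq x => (h2 q hq x).imp (hres q x)
        fun ⟨p, hp, hpq, n, hn⟩ => ⟨p, hp, hpq, n, hres q _ hn⟩) with
      ⟨b, hb, ⟨c, hc⟩, ⟨d, hd⟩⟩ | ⟨p, b, hp, hb, ⟨c, hc⟩, ⟨d, hd⟩⟩
    · exact hb ⟨⟨b, covered_of_sq_cube hB (hc ▸ c.2) (hd ▸ d.2)⟩, rfl⟩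
    · exact hb ⟨⟨b, covered_of_prime hB hr hp (hc ▸ c.2) (hd ▸ d.2)⟩, rfl⟩

include hB in
theorem exists_eq_of_g_eq {X Y : Mdl A B r} (x : X.R) (y : Y.R) (h : X.g x = Y.g y) :
    ∃ (Z : Mdl A B r) (p : X ⟶ Z) (q : Y ⟶ Z), p.f x = q.f y := by
  obtain ⟨Z, ⟨p⟩, ⟨q⟩⟩ := exists_bound X Y
  obtain ⟨W, w, hw⟩ := exists_kill hB Z {p.f x - q.f y} (by
    intro c hc
    rw [Finset.mem_singleton] at hc
    rw [hc, map_sub, p.w_apply, q.w_apply, h, sub_self])
  refine ⟨W, p ≫ w, q ≫ w, ?_⟩
  have := hw _ (Finset.mem_singleton_self _)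
  rwa [map_sub, sub_eq_zero] at this

variable (A B r) in
/-- The diagram of models. -/
def mdlFunctor : Mdl A B r ⥤ Under (CommRingCat.of A) where
  obj X := Under.mk (CommRingCat.ofHom (algebraMap A X.R))
  map p := Under.homMk (CommRingCat.ofHom p.f.toRingHom)
    (CommRingCat.hom_ext (AlgHom.comp_algebraMap p.f))

variable (A B r) in
/-- The cocone of models. -/
def mdlCocone : Cocone (mdlFunctor A B r) where
  pt := Under.mk (CommRingCat.ofHom (algebraMap A B))
  ι.app X := Under.homMk (CommRingCat.ofHom X.g.toRingHom)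
    (CommRingCat.hom_ext (AlgHom.comp_algebraMap X.g))
  ι.naturality X Y p := by
    ext x
    exact p.w_apply x

variable (A B r) in
/-- The legs of a cocone on the diagram of models, as ring maps. -/
def leg (s : Cocone (mdlFunctor A B r)) (X : Mdl A B r) : X.R →+* s.pt.right :=
  (s.ι.app X).right.hom

theorem leg_map (s : Cocone (mdlFunctor A B r)) {U V : Mdl A B r} (f : U ⟶ V) (u : U.R) :
    leg A B r s V (f.f u) = leg A B r s U u :=
  congr($(congrArg CommaMorphism.right (s.w f)) u)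

theorem leg_algebraMap (s : Cocone (mdlFunctor A B r)) (X : Mdl A B r) (a : A) :
    leg A B r s X (algebraMap A X.R a) = s.pt.hom a :=
  congr($(Under.w (s.ι.app X)) a)

include hB in
theorem nonempty_isColimit : Nonempty (IsColimit (mdlCocone A B r)) := by
  choose M x hx using covered_all hB
  have hval : ∀ (s : Cocone (mdlFunctor A B r)) (X : Mdl A B r) (z : X.R),
      leg A B r s (M (X.g z)) (x (X.g z)) = leg A B r s X z := by
    intro s X z
    obtain ⟨Z, p, q, e⟩ := exists_eq_of_g_eq hB (x (X.g z)) z (hx _)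
    rw [← leg_map s p, e, leg_map s q]
  let v : ∀ (s : Cocone (mdlFunctor A B r)) (b : B), s.pt.right := fun s b =>
    leg A B r s (M b) (x b)
  have hv : ∀ (s : Cocone (mdlFunctor A B r)) (X : Mdl A B r) (z : X.R) (b : B), X.g z = b →
      v s b = leg A B r s X z := fun s X z b h => by subst h; exact hval s X z
  refine ⟨{
    desc := fun s => Under.homMk (CommRingCat.ofHom
      { toFun := v s
        map_one' := by rw [hv s (M 0) 1 1 (map_one _), map_one]
        map_zero' := by rw [hv s (M 0) 0 0 (map_zero _), map_zero]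
        map_mul' := fun b b' => by
          obtain ⟨Z, ⟨p⟩, ⟨q⟩⟩ := exists_bound (M b) (M b')
          rw [hv s Z (p.f (x b) * q.f (x b')) (b * b') (by
            rw [map_mul, p.w_apply, q.w_apply, hx, hx]), map_mul, leg_map s p, leg_map s q]
        map_add' := fun b b' => by
          obtain ⟨Z, ⟨p⟩, ⟨q⟩⟩ := exists_bound (M b) (M b')
          rw [hv s Z (p.f (x b) + q.f (x b')) (b + b') (by
            rw [map_add, p.w_apply, q.w_apply, hx, hx]), map_add, leg_map s p, leg_map s q] })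
      (CommRingCat.hom_ext (RingHom.ext fun a => (hv s (M 0) (algebraMap A _ a) _
        ((M 0).g.commutes a)).trans (leg_algebraMap s _ a)))
    fac := fun s X => ?_
    uniq := fun s m hm => ?_ }⟩
  · ext z
    exact hv s X z _ rfl
  · ext b
    show m.right b = v s b
    have h := congr($(congrArg CommaMorphism.right (hm (M b))) (x b))
    have h2 : m.right ((M b).g (x b)) = v s b := h
    rw [hx] at h2
    exact h2

variable (A B r) in
theorem exists_approx (hB : Good r (algebraMap A B)) :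
    ∃ (J : Type u) (_ : SmallCategory J) (_ : IsFiltered J) (F : J ⥤ Under (CommRingCat.of A))
      (c : Cocone F) (_ : IsColimit c),
      (∀ j, (F.obj j).hom.hom.FinitePresentation ∧ FlatMor.IsUnivHomeo (Spec.map (F.obj j).hom) ∧
        (r → ∀ x : Spec (F.obj j).right,
          Function.Surjective ((Spec.map (F.obj j).hom).residueFieldMap x))) ∧
      Nonempty (c.pt ≅ Under.mk (CommRingCat.ofHom (algebraMap A B))) :=
  ⟨Mdl A B r, inferInstance, isFiltered_mdl hB, mdlFunctor A B r, mdlCocone A B r,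
    (nonempty_isColimit hB).some, fun X =>
      ⟨(RingHom.finitePresentation_algebraMap (A := A) (B := X.R)).mpr inferInstance,
        X.good.univHomeo,
        fun hr => (forall_residueFieldMap_surjective_iff (algebraMap A X.R)).mpr (X.good.res hr)⟩,
      ⟨Iso.refl _⟩⟩

end Groth.Agent.UH
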