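import Groth.Agent.Lib.UnivHomeo.Main
import Mathlib.RingTheory.FiniteStability
import Mathlib.RingTheory.IntegralClosure.IsIntegralClosure.Basic
import Mathlib.AlgebraicGeometry.Pullbacks

/-!
Algebras inducing universal homeomorphisms, and their permanence properties.
-/

universe u

open CategoryTheory AlgebraicGeometry Limits
open scoped TensorProduct

namespace Groth.Agent.UH

variable {A B C : Type u} [CommRing A] [CommRing B] [CommRing C]

/-- The spectrum is universally homeomorphic, and, if `r` holds, with trivial residue extensions. -/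
structure Good (r : Prop) (φ : A →+* B) : Prop where
  integral : φ.IsIntegral
  field : ∀ (K : Type u) [Field K] (g g' : B →+* K), g.comp φ = g'.comp φ → g = g'
  over : ∀ p : Ideal A, p.IsPrime → ∃ q : Ideal B, q.IsPrime ∧ q.comap φ = p
  res : r → Res φ

theorem Good.univHomeo {r : Prop} {φ : A →+* B} (h : Good r φ) :
    FlatMor.IsUnivHomeo (Spec.map (CommRingCat.ofHom φ)) :=
  (isUnivHomeo_iff φ).mpr ⟨h.integral, universallyInjective_of_field φ h.field,
    (surjective_iff φ).mpr h.over⟩

theorem Good.inj2 {r : Prop} {φ : A →+* B} (h : Good r φ) : Inj2 φ :=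
  (rad_inj2_of_universallyInjective φ (universallyInjective_of_field φ h.field)).1

theorem good_of_univHomeo {r : Prop} {φ : A →+* B}
    (h : FlatMor.IsUnivHomeo (Spec.map (CommRingCat.ofHom φ))) (hr : r → Res φ) : Good r φ := by
  obtain ⟨h₁, ⟨h₂, h₃⟩, h₄⟩ := (isUnivHomeo_Spec_iff φ).mp h
  exact ⟨h₁, fun K _ => eq_of_inj2_rad φ h₂ h₃ K, h₄, hr⟩

theorem res_comp {φ : A →+* B} {ψ : B →+* C} (h₁ : Res φ) (h₂ : Res ψ) : Res (ψ.comp φ) := by
  intro q hq d
  obtain ⟨c, s, hs, hd⟩ := h₂ q hq d
  obtain ⟨a₁, u₁, hu₁, he₁⟩ := h₁ (q.comap ψ) inferInstance s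
  obtain ⟨a₂, u₂, hu₂, he₂⟩ := h₁ (q.comap ψ) inferInstance c
  rw [Ideal.mem_comap, map_sub, map_mul] at he₁ he₂
  have hu₁' : ψ (φ u₁) ∉ q := hu₁
  have hu₂' : ψ (φ u₂) ∉ q := hu₂
  have ha : ψ (φ a₁) ∉ q := fun h => by
    rcases hq.mem_or_mem ((q.sub_mem_iff_left h).mp he₁) with h' | h'
    · exact hu₁' h'
    · exact hs h'
  refine ⟨a₂ * u₁, a₁ * u₂, fun h => ?_, ?_⟩
  · rw [RingHom.comp_apply, map_mul, map_mul] at h
    exact (hq.mem_or_mem h).elim ha hu₂'
  · simp only [RingHom.comp_apply, map_mul]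
    rw [show ψ (φ a₁) * ψ (φ u₂) * d - ψ (φ a₂) * ψ (φ u₁) =
      ψ (φ u₁) * ψ (φ u₂) * (ψ s * d - ψ c) - ψ (φ u₂) * d * (ψ (φ u₁) * ψ s - ψ (φ a₁)) +
        ψ (φ u₁) * (ψ (φ u₂) * ψ c - ψ (φ a₂)) by ring]
    exact q.add_mem (q.sub_mem (q.mul_mem_left _ hd) (q.mul_mem_left _ he₁)) (q.mul_mem_left _ he₂)

theorem good_comp {r : Prop} {φ : A →+* B} {ψ : B →+* C} (h₁ : Good r φ) (h₂ : Good r ψ) :
    Good r (ψ.comp φ) where
  integral := h₁.integral.trans φ ψ h₂.integral
  field K _ g g' h := h₂.field K g g' (h₁.field K _ _ (by rwa [RingHom.comp_assoc, RingHom.comp_assoc]))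
  over p hp := by
    obtain ⟨q, hq, rfl⟩ := h₁.over p hp
    obtain ⟨q', hq', rfl⟩ := h₂.over q hq
    exact ⟨q', hq', (Ideal.comap_comap φ ψ).symm⟩
  res hr := res_comp (h₁.res hr) (h₂.res hr)

theorem good_of_surjective (r : Prop) {φ : A →+* B} (hs : Function.Surjective φ)
    (hk : ∀ a ∈ RingHom.ker φ, IsNilpotent a) : Good r φ where
  integral := RingHom.IsIntegral.of_finite (RingHom.Finite.of_surjective φ hs)
  field K _ g g' h := RingHom.ext fun b => by
    obtain ⟨a, rfl⟩ := hs b
    exact RingHom.congr_fun h a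
  over p hp := by
    have hle : RingHom.ker φ ≤ p := fun a ha => by
      obtain ⟨n, hn⟩ := hk a ha
      exact hp.mem_of_pow_mem n (hn ▸ p.zero_mem)
    refine ⟨p.map φ, Ideal.map_isPrime_of_surjective hs hle, ?_⟩
    rw [Ideal.comap_map_of_surjective φ hs, sup_eq_left]
    exact hle
  res _ q _ b := by
    obtain ⟨a, rfl⟩ := hs b
    refine ⟨a, 1, fun h => ?_, ?_⟩
    · rw [map_one] at h; exact Ideal.one_notMem q h
    · rw [map_one, one_mul, sub_self]; exact q.zero_mem

theorem good_equiv (r : Prop) (e : A ≃+* B) : Good r e.toRingHom :=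
  good_of_surjective r e.surjective fun a ha => by
    rw [show a = 0 from e.injective ((RingHom.mem_ker.mp ha).trans (map_zero e).symm)]
    exact IsNilpotent.zero

theorem good_id (r : Prop) : Good r (RingHom.id A) := good_equiv r (RingEquiv.refl A)

variable [Algebra A B] [Algebra A C]

theorem good_tensor {r : Prop} (h : Good r (algebraMap A C)) :
    Good r (algebraMap B (B ⊗[A] C)) := by
  have key : ∀ (K : Type u) [Field K] (g g' : B ⊗[A] C →+* K),
      g.comp (algebraMap B (B ⊗[A] C)) = g'.comp (algebraMap B (B ⊗[A] C)) → g = g' := by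
    intro K _ g g' hg
    have hl : ∀ b, g (b ⊗ₜ 1) = g' (b ⊗ₜ 1) := fun b => RingHom.congr_fun hg b
    have hr : ∀ c, g (1 ⊗ₜ c) = g' (1 ⊗ₜ c) := by
      have := h.field K (g.comp Algebra.TensorProduct.includeRight.toRingHom)
        (g'.comp Algebra.TensorProduct.includeRight.toRingHom) (RingHom.ext fun a => by
          show g (1 ⊗ₜ algebraMap A C a) = g' (1 ⊗ₜ algebraMap A C a)
          rw [Algebra.algebraMap_eq_smul_one a, TensorProduct.tmul_smul, TensorProduct.smul_tmul']
          exact hl _)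
      exact fun c => RingHom.congr_fun this c
    refine RingHom.ext fun z => ?_
    induction z using TensorProduct.induction_on with
    | zero => rw [map_zero, map_zero]
    | add x y hx hy => rw [map_add, map_add, hx, hy]
    | tmul b c =>
      rw [show b ⊗ₜ[A] c = (b ⊗ₜ 1) * (1 ⊗ₜ c) by simp, map_mul, map_mul, hl, hr]
  haveI : Algebra.IsIntegral A C := ⟨h.integral⟩
  refine ⟨Algebra.IsIntegral.isIntegral, key, (surjective_iff _).mp ?_, fun hr q hq z => ?_⟩
  · haveI : Surjective (Spec.map (CommRingCat.ofHom (algebraMap A C))) :=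
      (surjective_iff _).mpr h.over
    have : Surjective ((pullbackSpecIso A B C).inv ≫ pullback.fst _ _) := inferInstance
    rwa [pullbackSpecIso_inv_fst] at this
  · let Φ := algebraMap B (B ⊗[A] C)
    induction z using TensorProduct.induction_on with
    | zero =>
      refine ⟨0, 1, fun h1 => ?_, ?_⟩
      · rw [map_one] at h1; exact Ideal.one_notMem q h1
      · simp
    | add x y hx hy =>
      obtain ⟨a, s, hs, ha⟩ := hx
      obtain ⟨b, t, ht, hb⟩ := hy
      refine ⟨t * a + s * b, s * t, fun h1 => ?_, ?_⟩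
      · rw [map_mul] at h1; exact (hq.mem_or_mem h1).elim hs ht
      · rw [map_mul, map_add, map_mul, map_mul,
          show Φ s * Φ t * (x + y) - (Φ t * Φ a + Φ s * Φ b) =
            Φ t * (Φ s * x - Φ a) + Φ s * (Φ t * y - Φ b) by ring]
        exact q.add_mem (q.mul_mem_left _ ha) (q.mul_mem_left _ hb)
    | tmul b c =>
      obtain ⟨a, s, hs, hc⟩ :=
        h.res hr (q.comap Algebra.TensorProduct.includeRight.toRingHom) inferInstance c
      have hs' : (1 : B) ⊗ₜ[A] algebraMap A C s ∉ q := hs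
      have hc' : (1 : B) ⊗ₜ[A] (algebraMap A C s * c - algebraMap A C a) ∈ q := hc
      refine ⟨b * algebraMap A B a, algebraMap A B s, fun h1 => hs' ?_, ?_⟩
      · rw [Algebra.algebraMap_eq_smul_one s, TensorProduct.tmul_smul, TensorProduct.smul_tmul',
          ← Algebra.algebraMap_eq_smul_one s]
        exact h1
      · have := q.mul_mem_left (b ⊗ₜ 1) hc'
        convert this using 1
        have e : ∀ (x : A) (z : B ⊗[A] C),
            algebraMap B (B ⊗[A] C) (algebraMap A B x) * z = (1 ⊗ₜ algebraMap A C x) * z := by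
          intro x z
          congr 1
          show (algebraMap A B x) ⊗ₜ[A] (1 : C) = (1 : B) ⊗ₜ[A] algebraMap A C x
          rw [Algebra.algebraMap_eq_smul_one, Algebra.algebraMap_eq_smul_one, TensorProduct.smul_tmul]
        rw [map_mul, mul_comm (algebraMap B (B ⊗[A] C) b), e, e]
        simp only [Algebra.TensorProduct.algebraMap_apply, Algebra.algebraMap_self, RingHom.id_apply,
          Algebra.TensorProduct.tmul_mul_tmul, one_mul, mul_one, TensorProduct.tmul_sub, mul_sub]

end Groth.Agent.UH
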