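import Groth.Agent.Lib.UnivHomeo.Good
import Mathlib.CategoryTheory.Limits.Preserves.Over
import Mathlib.Algebra.Category.Ring.FilteredColimits
import Mathlib.CategoryTheory.Limits.ConcreteCategory.Basic

/-!
Filtered colimits of algebras.
-/

universe u

open CategoryTheory AlgebraicGeometry Limits

namespace Groth.Agent.UH

variable {A : CommRingCat.{u}} {J : Type u} [SmallCategory J] [IsFiltered J] {F : J ⥤ Under A}
  {c : Cocone F}

/-- The legs of a cocone of algebras, as ring maps. -/
noncomputable def leg' (c : Cocone F) (j : J) : (F.obj j).right →+* c.pt.right :=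
  (c.ι.app j).right.hom

theorem leg'_comp (c : Cocone F) (j : J) : (leg' c j).comp (F.obj j).hom.hom = c.pt.hom.hom :=
  RingHom.ext fun a => congr($(Under.w (c.ι.app j)) a)

theorem leg'_map (c : Cocone F) {i j : J} (f : i ⟶ j) (x : (F.obj i).right) :
    leg' c j ((F.map f).right.hom x) = leg' c i x :=
  congr($(congrArg CommaMorphism.right (c.w f)) x)

theorem map_hom {i j : J} (f : i ⟶ j) (a : A) :
    (F.map f).right.hom ((F.obj i).hom.hom a) = (F.obj j).hom.hom a :=
  congr($(Under.w (F.map f)) a)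

variable (hc : IsColimit c)

include hc in
theorem exists_leg' (b : c.pt.right) : ∃ (j : J) (x : (F.obj j).right), leg' c j x = b :=
  Concrete.isColimit_exists_rep (F ⋙ Under.forget A) (isColimitOfPreserves (Under.forget A) hc) b

include hc in
theorem exists_eq_leg' {i j : J} (x : (F.obj i).right) (y : (F.obj j).right)
    (h : leg' c i x = leg' c j y) :
    ∃ (k : J) (f : i ⟶ k) (g : j ⟶ k), (F.map f).right.hom x = (F.map g).right.hom y :=
  (Concrete.isColimit_rep_eq_iff_exists (F ⋙ Under.forget A)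
    (isColimitOfPreserves (Under.forget A) hc) x y).mp h

include hc in
theorem integral_colim (h : ∀ j, (F.obj j).hom.hom.IsIntegral) : c.pt.hom.hom.IsIntegral := by
  intro b
  obtain ⟨j, x, rfl⟩ := exists_leg' hc b
  obtain ⟨p, hp, hx⟩ := h j x
  refine ⟨p, hp, ?_⟩
  rw [← leg'_comp c j, ← Polynomial.hom_eval₂, hx, map_zero]

include hc in
theorem field_colim (h : ∀ j, UniversallyInjective (Spec.map (F.obj j).hom)) (K : Type u) [Field K]
    (g g' : c.pt.right →+* K) (hg : g.comp c.pt.hom.hom = g'.comp c.pt.hom.hom) : g = g' := by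
  ext b
  obtain ⟨j, x, rfl⟩ := exists_leg' hc b
  obtain ⟨h₁, h₂⟩ := rad_inj2_of_universallyInjective (F.obj j).hom.hom (h j)
  exact RingHom.congr_fun (eq_of_inj2_rad _ h₁ h₂ K (g.comp (leg' c j)) (g'.comp (leg' c j))
    (by rw [RingHom.comp_assoc, RingHom.comp_assoc, leg'_comp]; exact hg)) x

include hc in
theorem res_colim (h : ∀ j, Res (F.obj j).hom.hom) : Res c.pt.hom.hom := by
  intro q hq b
  obtain ⟨j, x, rfl⟩ := exists_leg' hc b
  obtain ⟨a, s, hs, hx⟩ := h j (q.comap (leg' c j)) inferInstance x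
  rw [← leg'_comp c j]
  refine ⟨a, s, hs, ?_⟩
  rw [Ideal.mem_comap, map_sub, map_mul] at hx
  exact hx

include hc in
theorem over_colim (h : ∀ j (p : Ideal A), p.IsPrime →
    ∃ q : Ideal (F.obj j).right, q.IsPrime ∧ q.comap (F.obj j).hom.hom = p)
    (p : Ideal A) (hp : p.IsPrime) : ∃ q : Ideal c.pt.right, q.IsPrime ∧ q.comap c.pt.hom.hom = p := by
  let φ := c.pt.hom.hom
  have hmem : ∀ b ∈ p.map φ, ∃ (j : J) (x : (F.obj j).right),
      x ∈ p.map (F.obj j).hom.hom ∧ leg' c j x = b := by
    intro b hb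
    induction hb using Submodule.span_induction with
    | mem x hx =>
      obtain ⟨a, ha, rfl⟩ := hx
      obtain ⟨j⟩ := IsFiltered.nonempty (C := J)
      exact ⟨j, (F.obj j).hom.hom a, Ideal.mem_map_of_mem _ ha, RingHom.congr_fun (leg'_comp c j) a⟩
    | zero =>
      obtain ⟨j⟩ := IsFiltered.nonempty (C := J)
      exact ⟨j, 0, Ideal.zero_mem _, map_zero _⟩
    | add x y _ _ hx hy =>
      obtain ⟨i, x, hxm, rfl⟩ := hx
      obtain ⟨j, y, hym, rfl⟩ := hy
      obtain ⟨k, f, g, -⟩ := IsFilteredOrEmpty.cocone_objs i j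
      have key : ∀ {i : J} (f : i ⟶ k) {x}, x ∈ p.map (F.obj i).hom.hom →
          (F.map f).right.hom x ∈ p.map (F.obj k).hom.hom := by
        intro i f x hx
        have := Ideal.mem_map_of_mem (F.map f).right.hom hx
        rwa [Ideal.map_map, show (F.map f).right.hom.comp (F.obj i).hom.hom = (F.obj k).hom.hom from
          RingHom.ext (map_hom f)] at this
      exact ⟨k, _, Ideal.add_mem _ (key f hxm) (key g hym), by
        rw [map_add, leg'_map, leg'_map]⟩
    | smul r x _ hx =>
      obtain ⟨j, x, hxm, rfl⟩ := hx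
      obtain ⟨i, r, rfl⟩ := exists_leg' hc r
      obtain ⟨k, f, g, -⟩ := IsFilteredOrEmpty.cocone_objs i j
      have hm := Ideal.mem_map_of_mem (F.map g).right.hom hxm
      rw [Ideal.map_map, show (F.map g).right.hom.comp (F.obj j).hom.hom = (F.obj k).hom.hom from
        RingHom.ext (map_hom g)] at hm
      exact ⟨k, _, Ideal.mul_mem_left _ ((F.map f).right.hom r) hm, by
        rw [map_mul, leg'_map, leg'_map, smul_eq_mul]⟩
  have hdisj : Disjoint (p.map φ : Set c.pt.right) (p.primeCompl.map φ) := by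
    rw [Set.disjoint_left]
    rintro _ hb ⟨s, hs, rfl⟩
    obtain ⟨j, x, hx, e⟩ := hmem _ hb
    have e' : leg' c j x = leg' c j ((F.obj j).hom.hom s) :=
      e.trans (RingHom.congr_fun (leg'_comp c j) s).symm
    obtain ⟨k, f, g, hk⟩ := exists_eq_leg' hc _ _ e'
    obtain ⟨q, hq, hqp⟩ := h k p hp
    have h1 : (F.map f).right.hom x ∈ q := by
      have := Ideal.mem_map_of_mem (F.map f).right.hom hx
      rw [Ideal.map_map, show (F.map f).right.hom.comp (F.obj j).hom.hom = (F.obj k).hom.hom from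
        RingHom.ext (map_hom f)] at this
      exact Ideal.map_le_iff_le_comap.mpr hqp.ge this
    rw [hk, map_hom] at h1
    exact hs (hqp.le h1)
  obtain ⟨q, hq, hle, hqd⟩ := Ideal.exists_le_prime_disjoint _ _ hdisj
  refine ⟨q, hq, le_antisymm (fun a ha => ?_) (Ideal.map_le_iff_le_comap.mp hle)⟩
  by_contra hap
  exact Set.disjoint_left.mp hqd ha ⟨a, hap, rfl⟩

theorem integral_of_universallyClosed {R S : CommRingCat.{u}} (φ : R ⟶ S)
    (h : UniversallyClosed (Spec.map φ)) : φ.hom.IsIntegral :=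
  IsIntegralHom.SpecMap_iff.mp
    (IsIntegralHom.iff_universallyClosed_and_isAffineHom.mpr ⟨h, inferInstance⟩)

theorem universallyClosed_of_integral {R S : CommRingCat.{u}} (φ : R ⟶ S)
    (h : φ.hom.IsIntegral) : UniversallyClosed (Spec.map φ) := by
  haveI : IsIntegralHom (Spec.map φ) := IsIntegralHom.SpecMap_iff.mpr h
  infer_instance

end Groth.Agent.UH
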