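import Groth.Agent.Lib.UnivHomeo.Basic
import Mathlib.RingTheory.Adjoin.FG
import Mathlib.RingTheory.FiniteType
import Mathlib.RingTheory.IntegralClosure.IsIntegralClosure.Basic
import Mathlib.RingTheory.Ideal.MinimalPrime.Basic

/-!
Elementary steps in a subintegral or weakly subintegral extension.
-/

universe u

open CategoryTheory AlgebraicGeometry

namespace Groth.Agent.UH

variable {A B : Type u} [CommRing A] [CommRing B]

theorem exists_mem_primeCompl_mul_mem (φ : A →+* B) (J : Ideal B) (hJ : J.IsRadical)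
    (P : Ideal A) (hP : P ∈ (J.comap φ).minimalPrimes) (Q : Ideal B) [Q.IsPrime]
    (hQ : Q.comap φ = P) (hinj : Inj2 φ) (z : B) (hz : z ∈ Q) :
    ∃ t : A, t ∉ P ∧ φ t * z ∈ J := by
  haveI : P.IsPrime := hP.1.1
  let S : Submonoid B := P.primeCompl.map φ ⊔ Submonoid.powers z
  by_contra hne
  push Not at hne
  have hdisj : Disjoint (J : Set B) S := by
    rw [Set.disjoint_left]
    intro w hwJ hwS
    obtain ⟨_, ⟨t, ht, rfl⟩, _, ⟨n, rfl⟩, rfl⟩ := Submonoid.mem_sup.mp hwS
    refine hne t ht (hJ ⟨n + 1, ?_⟩)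
    rw [show (φ t * z) ^ (n + 1) = φ t ^ n * z * (φ t * z ^ n) by ring]
    exact J.mul_mem_left _ hwJ
  obtain ⟨Q', hQ', hJQ', hQS⟩ := Ideal.exists_le_prime_disjoint J S hdisj
  have hle : Q'.comap φ ≤ P := fun a ha => by
    by_contra h
    exact Set.disjoint_left.mp hQS ha (Submonoid.mem_sup_left ⟨a, h, rfl⟩)
  have heq : Q'.comap φ = P :=
    le_antisymm hle (hP.2 ⟨inferInstance, Ideal.comap_mono hJQ'⟩ hle)
  rw [← hinj Q' Q hQ' inferInstance (heq.trans hQ.symm)] at hz
  exact Set.disjoint_left.mp hQS hz (Submonoid.mem_sup_right ⟨1, pow_one z⟩)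

/-- Either there is an elementary step of square-cube type, or the radical of the conductor of a
finite extension is contained in the base. -/
theorem exists_step_or_conductor [Algebra A B] [Module.Finite A B]
    (hns : ¬ Function.Surjective (algebraMap A B)) :
    (∃ b : B, b ∉ (algebraMap A B).range ∧ b ^ 2 ∈ (algebraMap A B).range ∧
        b ^ 3 ∈ (algebraMap A B).range) ∨
      ∃ J : Ideal B, J.IsRadical ∧ J ≠ ⊤ ∧ (∀ x ∈ J, x ∈ (algebraMap A B).range) ∧
        ∀ x : B, (∀ b : B, x * b ∈ (algebraMap A B).range) → x ∈ J := by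
  let φ := algebraMap A B
  let C : Ideal B :=
    { carrier := {x | ∀ b, x * b ∈ φ.range}
      add_mem' := fun hx hy b => by rw [add_mul]; exact add_mem (hx b) (hy b)
      zero_mem' := fun b => by rw [zero_mul]; exact zero_mem _
      smul_mem' := fun c x hx b => by
        rw [smul_eq_mul, show c * x * b = x * (c * b) by ring]; exact hx _ }
  by_cases h : ∀ x ∈ C.radical, x ∈ φ.range
  · refine Or.inr ⟨C.radical, C.radical_isRadical, fun h' => ?_, h, fun x hx => Ideal.le_radical hx⟩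
    exact hns fun b => h b (h'.symm ▸ Submodule.mem_top)
  · push Not at h
    obtain ⟨x, ⟨n, hn⟩, hx⟩ := h
    have hbig : ∀ k, n ≤ k → x ^ k ∈ φ.range := fun k hk => by
      obtain ⟨j, rfl⟩ := Nat.exists_eq_add_of_le hk
      rw [pow_add]; exact hn _
    classical
    have hex : ∃ k, ∀ j, k < j → x ^ j ∈ φ.range := ⟨n, fun j hj => hbig j hj.le⟩
    obtain ⟨k, hk, hmin⟩ := Nat.findX hex
    have hk0 : 1 ≤ k := by
      by_contra h0
      exact hx (by simpa using hk 1 (by omega))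
    refine Or.inl ⟨x ^ k, fun hm => hmin (k - 1) (by omega) fun j hj => ?_, ?_, ?_⟩
    · rcases Nat.lt_or_eq_of_le (show k ≤ j by omega) with h1 | h1
      · exact hk j h1
      · exact h1 ▸ hm
    · rw [← pow_mul]; exact hk _ (by omega)
    · rw [← pow_mul]; exact hk _ (by omega)

/-- A residue field extension at a minimal prime over the conductor is nontrivial. -/
theorem not_forall_resAt [Algebra A B] [Module.Finite A B] (J : Ideal B) (hJ : J.IsRadical)
    (hmem : ∀ x ∈ J, x ∈ (algebraMap A B).range)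
    (hcond : ∀ x : B, (∀ b : B, x * b ∈ (algebraMap A B).range) → x ∈ J)
    (hinj : Inj2 (algebraMap A B))
    (P : Ideal A) (hP : P ∈ (J.comap (algebraMap A B)).minimalPrimes)
    (Q : Ideal B) [Q.IsPrime] (hQ : Q.comap (algebraMap A B) = P) :
    ¬ ∀ b, ResAt (algebraMap A B) Q b := by
  intro hres
  haveI : P.IsPrime := hP.1.1
  let φ := algebraMap A B
  let D : Submodule A B :=
    { carrier := {b | ∃ u : A, u ∉ P ∧ φ u * b ∈ φ.range}
      add_mem' := by
        rintro x y ⟨u, hu, hx⟩ ⟨v, hv, hy⟩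
        refine ⟨u * v, P.primeCompl.mul_mem hu hv, ?_⟩
        rw [map_mul, show φ u * φ v * (x + y) = φ v * (φ u * x) + φ u * (φ v * y) by ring]
        exact add_mem (mul_mem ⟨v, rfl⟩ hx) (mul_mem ⟨u, rfl⟩ hy)
      zero_mem' := ⟨1, P.primeCompl.one_mem, by rw [mul_zero]; exact zero_mem _⟩
      smul_mem' := by
        rintro c x ⟨u, hu, hx⟩
        refine ⟨u, hu, ?_⟩
        rw [Algebra.smul_def, show φ u * (φ c * x) = φ c * (φ u * x) by ring]
        exact mul_mem ⟨c, rfl⟩ hx }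
  have hD : ∀ b, b ∈ D := fun b => by
    obtain ⟨a, s, hs, hb⟩ := hres b
    obtain ⟨t, ht, htz⟩ := exists_mem_primeCompl_mul_mem φ J hJ P hP Q hQ hinj _ hb
    refine ⟨t * s, P.primeCompl.mul_mem ht (fun h => hs (hQ.ge h)), ?_⟩
    rw [map_mul, show φ t * φ s * b = φ t * (φ s * b - φ a) + φ t * φ a by ring]
    exact add_mem (hmem _ htz) (mul_mem ⟨t, rfl⟩ ⟨a, rfl⟩)
  obtain ⟨G, hG⟩ := Module.Finite.fg_top (R := A) (M := B)
  classical
  choose u hu hub using fun b => hD b
  let s : A := ∏ g ∈ G, u g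
  have hs : s ∉ P := P.primeCompl.prod_mem fun g _ => hu g
  let E : Submodule A B :=
    { carrier := {b | φ s * b ∈ φ.range}
      add_mem' := fun {x y} hx hy => by
        show φ s * (x + y) ∈ φ.range
        rw [mul_add]; exact add_mem hx hy
      zero_mem' := by show φ s * 0 ∈ φ.range; rw [mul_zero]; exact zero_mem _
      smul_mem' := fun c x hx => by
        show φ s * (c • x) ∈ φ.range
        rw [Algebra.smul_def, show φ s * (φ c * x) = φ c * (φ s * x) by ring]
        exact mul_mem ⟨c, rfl⟩ hx }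
  have hE : ⊤ ≤ E := by
    rw [← hG, Submodule.span_le]
    intro g hg
    show φ s * g ∈ φ.range
    rw [show s = (∏ g' ∈ G.erase g, u g') * u g from (Finset.prod_erase_mul G u hg).symm,
      map_mul, mul_assoc]
    exact mul_mem ⟨_, rfl⟩ (hub g)
  exact hs (hP.1.2 (hcond (φ s) fun b => hE (Submodule.mem_top : b ∈ ⊤)))

theorem exists_over_conductor [Algebra A B] [Algebra.IsIntegral A B]
    (hinj : Function.Injective (algebraMap A B)) (J : Ideal B) (hJ : J ≠ ⊤) :
    ∃ P ∈ (J.comap (algebraMap A B)).minimalPrimes, ∃ Q : Ideal B, Q.IsPrime ∧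
      Q.comap (algebraMap A B) = P := by
  obtain ⟨P, hP⟩ := Ideal.nonempty_minimalPrimes (I := J.comap (algebraMap A B))
    (fun h => hJ (J.eq_top_iff_one.mpr (by
      have : (1 : A) ∈ J.comap (algebraMap A B) := h ▸ Submodule.mem_top
      simpa using this)))
  haveI : P.IsPrime := hP.1.1
  exact ⟨P, hP, exists_over_of_injective _ hinj Algebra.IsIntegral.isIntegral P⟩

theorem exists_sq_cube_finite [Algebra A B] [Module.Finite A B]
    (hinj : Function.Injective (algebraMap A B)) (hns : ¬ Function.Surjective (algebraMap A B))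
    (h₁ : Inj2 (algebraMap A B)) (h₂ : Res (algebraMap A B)) :
    ∃ b : B, b ∉ (algebraMap A B).range ∧ b ^ 2 ∈ (algebraMap A B).range ∧
      b ^ 3 ∈ (algebraMap A B).range := by
  refine (exists_step_or_conductor hns).resolve_right ?_
  rintro ⟨J, hJ, hJ1, hmem, hcond⟩
  obtain ⟨P, hP, Q, hQ, hQP⟩ := exists_over_conductor hinj J hJ1
  exact not_forall_resAt J hJ hmem hcond h₁ P hP Q hQP (h₂ Q hQ)

theorem exists_sq_cube_or_prime_finite [Algebra A B] [Module.Finite A B]
    (hinj : Function.Injective (algebraMap A B)) (hns : ¬ Function.Surjective (algebraMap A B))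
    (h₁ : Inj2 (algebraMap A B)) (h₂ : Rad (algebraMap A B)) :
    (∃ b : B, b ∉ (algebraMap A B).range ∧ b ^ 2 ∈ (algebraMap A B).range ∧
      b ^ 3 ∈ (algebraMap A B).range) ∨
    ∃ (p : ℕ) (b : B), p.Prime ∧ b ∉ (algebraMap A B).range ∧
      (p : B) * b ∈ (algebraMap A B).range ∧ b ^ p ∈ (algebraMap A B).range := by
  refine (exists_step_or_conductor hns).imp_right ?_
  rintro ⟨J, hJ, hJ1, hmem, hcond⟩
  obtain ⟨P, hP, Q, hQ, hQP⟩ := exists_over_conductor hinj J hJ1
  haveI : P.IsPrime := hP.1.1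
  let φ := algebraMap A B
  have hnot := not_forall_resAt J hJ hmem hcond h₁ P hP Q hQP
  push Not at hnot
  obtain ⟨b₀, hb₀⟩ := hnot
  rcases h₂ Q hQ b₀ with hr | ⟨p, hp, hpQ, n, hr⟩
  · exact absurd hr hb₀
  classical
  have hex : ∃ m, ResAt φ Q (b₀ ^ p ^ m) := ⟨n, hr⟩
  obtain ⟨m, hm, hmin⟩ := Nat.findX hex
  obtain ⟨m, rfl⟩ : ∃ m', m = m' + 1 := ⟨m - 1, by
    rcases m with _ | m
    · exact absurd (by simpa using hm) hb₀
    · rfl⟩
  let b := b₀ ^ p ^ m
  have hb : ¬ ResAt φ Q b := hmin m (by omega)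
  obtain ⟨a, s, hs, hab⟩ : ResAt φ Q (b ^ p) := by rwa [← pow_mul, ← pow_succ]
  obtain ⟨t, ht, htz⟩ := exists_mem_primeCompl_mul_mem φ J hJ P hP Q hQP h₁ _ hab
  obtain ⟨t', ht', htp⟩ := exists_mem_primeCompl_mul_mem φ J hJ P hP Q hQP h₁ _ hpQ
  let c : A := t' * (t * s)
  have hc : φ c ∉ Q := fun h => by
    have : c ∈ P := hQP.le h
    exact P.primeCompl.mul_mem ht' (P.primeCompl.mul_mem ht (fun h' => hs (hQP.ge h'))) this
  refine ⟨p, φ c * b, hp, ?_, ?_, ?_⟩
  · rintro ⟨a', ha'⟩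
    exact hb ⟨a', c, hc, by
      rw [show φ c * b - φ a' = 0 from sub_eq_zero.mpr ha'.symm]; exact zero_mem _⟩
  · rw [show (p : B) * (φ c * b) = (φ (t * s) * b) * (φ t' * (p : B)) by
      simp only [c, map_mul]; ring]
    exact hmem _ (J.mul_mem_left _ htp)
  · obtain ⟨p', rfl⟩ : ∃ p', p = p' + 1 := ⟨p - 1, by have := hp.one_lt; omega⟩
    rw [show (φ c * b) ^ (p' + 1) = (φ c ^ p' * φ t') * (φ t * (φ s * b ^ (p' + 1) - φ a) + φ t * φ a)
      by simp only [c, map_mul]; ring]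
    exact mul_mem (mul_mem (pow_mem (RingHom.mem_range_self φ c) _) (RingHom.mem_range_self φ t'))
      (add_mem (hmem _ htz) (mul_mem ⟨t, rfl⟩ ⟨a, rfl⟩))

section Sub

variable [Algebra A B]

theorem resAt_subalgebra (C : Subalgebra A B) (Q : Ideal B) (c : C)
    (h : ResAt (algebraMap A B) Q c.1) :
    ResAt (algebraMap A C) (Q.comap C.val.toRingHom) c := by
  obtain ⟨a, s, hs, hc⟩ := h
  exact ⟨a, s, hs, hc⟩

theorem exists_prime_over_subalgebra [Algebra.IsIntegral A B] (C : Subalgebra A B)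
    (q : Ideal C) [q.IsPrime] : ∃ Q : Ideal B, Q.IsPrime ∧ Q.comap C.val.toRingHom = q :=
  exists_over_of_injective C.val.toRingHom Subtype.val_injective
    (fun x => (Algebra.IsIntegral.isIntegral (R := A) x).tower_top (A := C)) q

theorem inj2_subalgebra [Algebra.IsIntegral A B] (C : Subalgebra A B)
    (h : Inj2 (algebraMap A B)) : Inj2 (algebraMap A C) := by
  intro q q' hq hq' e
  obtain ⟨Q, hQ, rfl⟩ := exists_prime_over_subalgebra C q
  obtain ⟨Q', hQ', rfl⟩ := exists_prime_over_subalgebra C q'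
  rw [h Q Q' hQ hQ' e]

theorem res_subalgebra [Algebra.IsIntegral A B] (C : Subalgebra A B)
    (h : Res (algebraMap A B)) : Res (algebraMap A C) := by
  intro q hq c
  obtain ⟨Q, hQ, rfl⟩ := exists_prime_over_subalgebra C q
  exact resAt_subalgebra C Q c (h Q hQ _)

theorem rad_subalgebra [Algebra.IsIntegral A B] (C : Subalgebra A B)
    (h : Rad (algebraMap A B)) : Rad (algebraMap A C) := by
  intro q hq c
  obtain ⟨Q, hQ, rfl⟩ := exists_prime_over_subalgebra C q
  refine (h Q hQ c.1).imp (resAt_subalgebra C Q c) ?_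
  rintro ⟨p, hp, hpQ, n, hn⟩
  exact ⟨p, hp, by simpa [Ideal.mem_comap] using hpQ, n, resAt_subalgebra C Q (c ^ p ^ n) hn⟩

theorem integral_subalgebra [Algebra.IsIntegral A B] (C : Subalgebra A B) :
    Algebra.IsIntegral A C :=
  ⟨fun x => (isIntegral_algHom_iff C.val Subtype.val_injective).mp
    (Algebra.IsIntegral.isIntegral x.1)⟩

theorem exists_adjoin_singleton [Algebra.IsIntegral A B]
    (hinj : Function.Injective (algebraMap A B)) (hns : ¬ Function.Surjective (algebraMap A B)) :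
    ∃ C : Subalgebra A B, Module.Finite A C ∧ Function.Injective (algebraMap A C) ∧
      ¬ Function.Surjective (algebraMap A C) := by
  simp only [Function.Surjective, not_forall] at hns
  obtain ⟨b, hb⟩ := hns
  refine ⟨Algebra.adjoin A {b}, ?_, fun x y h => hinj (congrArg Subtype.val h), fun h => ?_⟩
  · exact Module.Finite.iff_fg.mpr (Algebra.IsIntegral.isIntegral b).fg_adjoin_singleton
  · obtain ⟨a, ha⟩ := h ⟨b, Algebra.self_mem_adjoin_singleton A b⟩
    exact hb ⟨a, congrArg Subtype.val ha⟩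

/-- A proper subintegral extension contains an elementary step. -/
theorem exists_sq_cube [Algebra.IsIntegral A B]
    (hinj : Function.Injective (algebraMap A B)) (hns : ¬ Function.Surjective (algebraMap A B))
    (h₁ : Inj2 (algebraMap A B)) (h₂ : Res (algebraMap A B)) :
    ∃ b : B, b ∉ (algebraMap A B).range ∧ b ^ 2 ∈ (algebraMap A B).range ∧
      b ^ 3 ∈ (algebraMap A B).range := by
  obtain ⟨C, hC, hi, hn⟩ := exists_adjoin_singleton hinj hns
  obtain ⟨b, hb, hb2, hb3⟩ :=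
    exists_sq_cube_finite hi hn (inj2_subalgebra C h₁) (res_subalgebra C h₂)
  refine ⟨b.1, fun ⟨a, ha⟩ => hb ⟨a, Subtype.ext ha⟩, ?_, ?_⟩
  · obtain ⟨a, ha⟩ := hb2; exact ⟨a, congrArg Subtype.val ha⟩
  · obtain ⟨a, ha⟩ := hb3; exact ⟨a, congrArg Subtype.val ha⟩

/-- A proper weakly subintegral extension contains an elementary step. -/
theorem exists_sq_cube_or_prime [Algebra.IsIntegral A B]
    (hinj : Function.Injective (algebraMap A B)) (hns : ¬ Function.Surjective (algebraMap A B))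
    (h₁ : Inj2 (algebraMap A B)) (h₂ : Rad (algebraMap A B)) :
    (∃ b : B, b ∉ (algebraMap A B).range ∧ b ^ 2 ∈ (algebraMap A B).range ∧
      b ^ 3 ∈ (algebraMap A B).range) ∨
    ∃ (p : ℕ) (b : B), p.Prime ∧ b ∉ (algebraMap A B).range ∧
      (p : B) * b ∈ (algebraMap A B).range ∧ b ^ p ∈ (algebraMap A B).range := by
  obtain ⟨C, hC, hi, hn⟩ := exists_adjoin_singleton hinj hns
  rcases exists_sq_cube_or_prime_finite hi hn (inj2_subalgebra C h₁) (rad_subalgebra C h₂) with
    ⟨b, hb, ⟨a, ha⟩, ⟨a', ha'⟩⟩ | ⟨p, b, hp, hb, ⟨a, ha⟩, ⟨a', ha'⟩⟩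
  · exact Or.inl ⟨b.1, fun ⟨c, hc⟩ => hb ⟨c, Subtype.ext hc⟩,
      ⟨a, congrArg Subtype.val ha⟩, ⟨a', congrArg Subtype.val ha'⟩⟩
  · exact Or.inr ⟨p, b.1, hp, fun ⟨c, hc⟩ => hb ⟨c, Subtype.ext hc⟩,
      ⟨a, congrArg Subtype.val ha⟩, ⟨a', congrArg Subtype.val ha'⟩⟩

end Sub

end Groth.Agent.UH
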