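import Groth.Agent.Lib.UnivHomeo.Step
import Mathlib.RingTheory.Adjoin.Basic
import Mathlib.RingTheory.Localization.FractionRing
import Mathlib.Algebra.Field.Subfield.Basic

/-!
Towers of elementary extensions.
-/

universe u

open CategoryTheory AlgebraicGeometry

namespace Groth.Agent.UH

variable {A B : Type u} [CommRing A] [CommRing B] [Algebra A B]

/-- The elements of `l` before position `i`. -/
def Before (l : List B) (i : Fin l.length) : Set B := {b | ∃ j : Fin l.length, j < i ∧ b = l.get j}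

/-- A step of square-cube type. -/
def StepSC (T : Subalgebra A B) (b : B) : Prop := b ^ 2 ∈ T ∧ b ^ 3 ∈ T

/-- A step of either type. -/
def StepP (T : Subalgebra A B) (b : B) : Prop :=
  (b ^ 2 ∈ T ∧ b ^ 3 ∈ T) ∨ ∃ p : ℕ, p.Prime ∧ (p : B) * b ∈ T ∧ b ^ p ∈ T

theorem stepP_of_stepSC {T : Subalgebra A B} {b : B} (h : StepSC T b) : StepP T b := Or.inl h

theorem stepP_mono {T T' : Subalgebra A B} (h : T ≤ T') {b : B} : StepP T b → StepP T' b :=
  Or.imp (fun h' => ⟨h h'.1, h h'.2⟩) fun ⟨p, hp, h₁, h₂⟩ => ⟨p, hp, h h₁, h h₂⟩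

theorem stepSC_mono {T T' : Subalgebra A B} (h : T ≤ T') {b : B} : StepSC T b → StepSC T' b :=
  fun h' => ⟨h h'.1, h h'.2⟩

variable (A) in
/-- A tower of steps of type `Pr`. -/
def IsTower (Pr : Subalgebra A B → B → Prop) (l : List B) : Prop :=
  ∀ i : Fin l.length, Pr (Algebra.adjoin A (Before l i)) (l.get i)

theorem adjoin_le_of_tower {Pr : Subalgebra A B → B → Prop} {l : List B} (h : IsTower A Pr l)
    (G : Subalgebra A B) (hG : ∀ (T : Subalgebra A B) (b : B), T ≤ G → Pr T b → b ∈ G) :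
    Algebra.adjoin A {b | b ∈ l} ≤ G := by
  have key : ∀ (n : ℕ) (i : Fin l.length), i.1 < n → l.get i ∈ G := by
    intro n
    induction n with
    | zero => intro i hi; omega
    | succ n ih =>
      intro i hi
      refine hG _ _ (Algebra.adjoin_le ?_) (h i)
      rintro _ ⟨j, hj, rfl⟩
      exact ih j (by have := Fin.lt_def.mp hj; omega)
  refine Algebra.adjoin_le fun b hb => ?_
  obtain ⟨i, rfl⟩ := List.get_of_mem hb
  exact key (i.1 + 1) i (by omega)

theorem IsTower.append {Pr : Subalgebra A B → B → Prop}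
    (hmono : ∀ T T' b, T ≤ T' → Pr T b → Pr T' b) {l l' : List B} (h : IsTower A Pr l)
    (h' : IsTower A Pr l') : IsTower A Pr (l ++ l') := by
  intro i
  have hlen : (l ++ l').length = l.length + l'.length := List.length_append
  by_cases hi : i.1 < l.length
  · have e : (l ++ l').get i = l.get ⟨i, hi⟩ := by simp [List.getElem_append_left hi]
    rw [e]
    refine hmono _ _ _ (Algebra.adjoin_mono ?_) (h ⟨i, hi⟩)
    rintro _ ⟨j, hj, rfl⟩
    exact ⟨⟨j, by omega⟩, Fin.lt_def.mpr (Fin.lt_def.mp hj), by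
      simp [List.getElem_append_left j.2]⟩
  · have hi' : i.1 - l.length < l'.length := by omega
    have e : (l ++ l').get i = l'.get ⟨i.1 - l.length, hi'⟩ := by
      simp [List.getElem_append_right (Nat.le_of_not_lt hi)]
    rw [e]
    refine hmono _ _ _ (Algebra.adjoin_mono ?_) (h' ⟨i.1 - l.length, hi'⟩)
    rintro _ ⟨j, hj, rfl⟩
    have hj' : j.1 < i.1 - l.length := Fin.lt_def.mp hj
    exact ⟨⟨l.length + j, by omega⟩, Fin.lt_def.mpr (show l.length + j.1 < i.1 by omega), by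
      simp [List.getElem_append_right (Nat.le_add_right l.length j.1)]⟩

theorem IsTower.concat {Pr : Subalgebra A B → B → Prop}
    (hmono : ∀ T T' b, T ≤ T' → Pr T b → Pr T' b) {l : List B} (h : IsTower A Pr l)
    {b : B} (hb : Pr (Algebra.adjoin A {c | c ∈ l}) b) : IsTower A Pr (l ++ [b]) := by
  intro i
  have hlen : (l ++ [b]).length = l.length + 1 := by simp
  by_cases hi : i.1 < l.length
  · have e : (l ++ [b]).get i = l.get ⟨i, hi⟩ := by simp [List.getElem_append_left hi]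
    rw [e]
    refine hmono _ _ _ (Algebra.adjoin_mono ?_) (h ⟨i, hi⟩)
    rintro _ ⟨j, hj, rfl⟩
    exact ⟨⟨j, by omega⟩, Fin.lt_def.mpr (Fin.lt_def.mp hj), by
      simp [List.getElem_append_left j.2]⟩
  · have hi' : i.1 = l.length := by omega
    have e : (l ++ [b]).get i = b := by simp [hi']
    rw [e]
    refine hmono _ _ _ (Algebra.adjoin_mono ?_) hb
    intro c hc
    obtain ⟨j, rfl⟩ := List.get_of_mem hc
    exact ⟨⟨j, by omega⟩, Fin.lt_def.mpr (show j.1 < i.1 by omega), by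
      simp [List.getElem_append_left j.2]⟩

variable (A B) in
/-- Every finite subset is contained in a tower. -/
def HasTowers (Pr : Subalgebra A B → B → Prop) : Prop :=
  ∀ E : Finset B, ∃ l : List B, (↑E : Set B) ⊆ Algebra.adjoin A {b : B | b ∈ l} ∧ IsTower A Pr l

theorem top_le_of_hasTowers {Pr : Subalgebra A B → B → Prop} (h : HasTowers A B Pr)
    (G : Subalgebra A B) (hG : ∀ (T : Subalgebra A B) (b : B), T ≤ G → Pr T b → b ∈ G) :
    ∀ b, b ∈ G := fun b => by
  obtain ⟨l, hl, ht⟩ := h {b}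
  exact adjoin_le_of_tower ht G hG (hl (Finset.mem_singleton_self b))

theorem hasTowers_of (Pr : Subalgebra A B → B → Prop)
    (hmono : ∀ T T' b, T ≤ T' → Pr T b → Pr T' b)
    (hstep : ∀ T : Subalgebra A B, T ≠ ⊤ → ∃ b, b ∉ T ∧ ∃ E : Finset B, (↑E : Set B) ⊆ T ∧
      ∀ T' : Subalgebra A B, (↑E : Set B) ⊆ T' → Pr T' b) :
    HasTowers A B Pr := by
  classical
  let M : Subalgebra A B :=
    { carrier := {b | ∃ l, IsTower A Pr l ∧ b ∈ Algebra.adjoin A {c | c ∈ l}}
      mul_mem' := by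
        rintro x y ⟨l, hl, hx⟩ ⟨l', hl', hy⟩
        refine ⟨l ++ l', hl.append hmono hl', mul_mem (Algebra.adjoin_mono ?_ hx)
          (Algebra.adjoin_mono ?_ hy)⟩ <;> intro c hc <;> simp_all
      add_mem' := by
        rintro x y ⟨l, hl, hx⟩ ⟨l', hl', hy⟩
        refine ⟨l ++ l', hl.append hmono hl', add_mem (Algebra.adjoin_mono ?_ hx)
          (Algebra.adjoin_mono ?_ hy)⟩ <;> intro c hc <;> simp_all
      algebraMap_mem' := fun a => ⟨[], fun i => i.elim0, Subalgebra.algebraMap_mem _ a⟩ }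
  have hfin : ∀ E : Finset B, (↑E : Set B) ⊆ M →
      ∃ l, IsTower A Pr l ∧ (↑E : Set B) ⊆ Algebra.adjoin A {c | c ∈ l} := by
    intro E
    induction E using Finset.induction with
    | empty => exact fun _ => ⟨[], fun i => i.elim0, by simp⟩
    | insert x E hx ih =>
      intro hE
      rw [Finset.coe_insert, Set.insert_subset_iff] at hE
      obtain ⟨l, hl, hlE⟩ := ih hE.2
      obtain ⟨l', hl', hx'⟩ := hE.1
      refine ⟨l' ++ l, hl'.append hmono hl, ?_⟩
      rw [Finset.coe_insert, Set.insert_subset_iff]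
      exact ⟨Algebra.adjoin_mono (by intro c hc; simp_all) hx',
        hlE.trans (Algebra.adjoin_mono (by intro c hc; simp_all))⟩
  have hM : M = ⊤ := by
    by_contra hne
    obtain ⟨b, hb, E, hEM, hEb⟩ := hstep M hne
    obtain ⟨l, hl, hlE⟩ := hfin E hEM
    exact hb ⟨l ++ [b], hl.concat hmono (hEb _ hlE), Algebra.subset_adjoin (by simp)⟩
  intro E
  obtain ⟨l, hl, hlE⟩ := hfin E (by rw [hM]; exact fun _ _ => Algebra.mem_top)
  exact ⟨l, hlE, hl⟩

theorem isIntegral_of_stepP {T : Subalgebra A B} (hT : T ≤ integralClosure A B) {b : B}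
    (h : StepP T b) : IsIntegral A b := by
  rcases h with ⟨h₂, -⟩ | ⟨p, hp, -, h₂⟩
  · exact IsIntegral.of_pow two_pos (hT h₂)
  · exact IsIntegral.of_pow hp.pos (hT h₂)

/-- Extensions generated by towers are integral. -/
theorem isIntegral_of_hasTowers (h : HasTowers A B StepP) : Algebra.IsIntegral A B :=
  ⟨top_le_of_hasTowers h (integralClosure A B) fun _ _ hT hb => isIntegral_of_stepP hT hb⟩

theorem eq_of_hasTowers (h : HasTowers A B StepP) (K : Type u) [Field K] (g g' : B →+* K)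
    (hg : g.comp (algebraMap A B) = g'.comp (algebraMap A B)) : g = g' := by
  let G : Subalgebra A B :=
    { carrier := {b | g b = g' b}
      mul_mem' := fun {x y} hx hy => by
        show g (x * y) = g' (x * y); rw [map_mul, map_mul, hx, hy]
      add_mem' := fun {x y} hx hy => by
        show g (x + y) = g' (x + y); rw [map_add, map_add, hx, hy]
      algebraMap_mem' := fun a => RingHom.congr_fun hg a }
  refine RingHom.ext (top_le_of_hasTowers h G fun T b hT hb => ?_)
  show g b = g' b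
  rcases hb with ⟨h₂, h₃⟩ | ⟨p, hp, h₁, h₂⟩
  · have e₂ : g b ^ 2 = g' b ^ 2 := by rw [← map_pow, ← map_pow]; exact hT h₂
    have e₃ : g b ^ 3 = g' b ^ 3 := by rw [← map_pow, ← map_pow]; exact hT h₃
    by_cases h0 : g b = 0
    · rw [h0, zero_pow two_ne_zero] at e₂
      rw [h0, eq_zero_of_pow_eq_zero e₂.symm]
    · refine mul_left_cancel₀ (pow_ne_zero 2 h0) ?_
      rw [← pow_succ, e₃, e₂, ← pow_succ]
  · have e₁ : (p : K) * g b = (p : K) * g' b := by
      have : g ((p : B) * b) = g' ((p : B) * b) := hT h₁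
      simpa using this
    by_cases hp0 : (p : K) = 0
    · haveI : Fact p.Prime := ⟨hp⟩
      haveI : CharP K p := CharP.ringChar_of_prime_eq_zero hp hp0 ▸ ringChar.charP K
      refine frobenius_inj K p ?_
      simp only [frobenius_def, ← map_pow]
      exact hT h₂
    · exact mul_left_cancel₀ hp0 e₁

theorem universallyInjective_of_hasTowers (h : HasTowers A B StepP) :
    UniversallyInjective (Spec.map (CommRingCat.ofHom (algebraMap A B))) :=
  universallyInjective_of_field _ fun K _ => eq_of_hasTowers h K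

theorem resAt_of_mem_closure (Q : Ideal B) [Q.IsPrime] (b : B)
    (h : algebraMap (B ⧸ Q) (FractionRing (B ⧸ Q)) (Ideal.Quotient.mk Q b) ∈
      Subfield.closure (Set.range fun a : A =>
        algebraMap (B ⧸ Q) (FractionRing (B ⧸ Q)) (Ideal.Quotient.mk Q (algebraMap A B a)))) :
    ResAt (algebraMap A B) Q b := by
  let g : B →+* FractionRing (B ⧸ Q) :=
    (algebraMap (B ⧸ Q) (FractionRing (B ⧸ Q))).comp (Ideal.Quotient.mk Q)
  have hker : ∀ x, g x = 0 ↔ x ∈ Q := fun x => by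
    rw [← Ideal.Quotient.eq_zero_iff_mem]
    exact map_eq_zero_iff (algebraMap (B ⧸ Q) (FractionRing (B ⧸ Q)))
      (IsFractionRing.injective (B ⧸ Q) (FractionRing (B ⧸ Q)))
  have hcl : ∀ y ∈ Subring.closure (Set.range fun a : A => g (algebraMap A B a)),
      ∃ a, g (algebraMap A B a) = y := fun y hy =>
    (Subring.closure_le (t := (g.comp (algebraMap A B)).range)).mpr
      (by rintro _ ⟨a, rfl⟩; exact ⟨a, rfl⟩) hy
  obtain ⟨y, hy, z, hz, hyz⟩ := Subfield.mem_closure_iff.mp h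
  obtain ⟨a, rfl⟩ := hcl y hy
  obtain ⟨s, rfl⟩ := hcl z hz
  by_cases h0 : g (algebraMap A B s) = 0
  · refine ⟨0, 1, fun h1 => ?_, ?_⟩
    · rw [map_one] at h1; exact Ideal.one_notMem Q h1
    · rw [map_one, one_mul, map_zero, sub_zero, ← hker]
      show g b = 0
      rw [show g b = _ from hyz.symm, h0, div_zero]
  · refine ⟨a, s, fun hs => h0 ((hker _).mpr hs), (hker _).mp ?_⟩
    have hb : g (algebraMap A B a) / g (algebraMap A B s) = g b := hyz
    rw [map_sub, map_mul, ← hb, mul_div_cancel₀ _ h0, sub_self]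

theorem res_of_hasTowers (h : HasTowers A B StepSC) : Res (algebraMap A B) := by
  intro Q hQ
  let g : B →+* FractionRing (B ⧸ Q) :=
    (algebraMap (B ⧸ Q) (FractionRing (B ⧸ Q))).comp (Ideal.Quotient.mk Q)
  let F := Subfield.closure (Set.range fun a : A => g (algebraMap A B a))
  let G : Subalgebra A B :=
    { F.toSubring.comap g with
      algebraMap_mem' := fun a => Subfield.subset_closure ⟨a, rfl⟩ }
  intro b
  refine resAt_of_mem_closure Q b (top_le_of_hasTowers h G (fun T b hT hb => ?_) b)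
  show g b ∈ F
  have h₂ : g b ^ 2 ∈ F := by rw [← map_pow]; exact hT hb.1
  have h₃ : g b ^ 3 ∈ F := by rw [← map_pow]; exact hT hb.2
  by_cases h0 : g b = 0
  · rw [h0]; exact zero_mem F
  · rw [show g b = g b ^ 3 / g b ^ 2 by rw [eq_div_iff (pow_ne_zero 2 h0), ← pow_succ']]
    exact div_mem h₃ h₂

theorem hasTowers_stepSC_of (hint : Algebra.IsIntegral A B)
    (h₁ : Inj2 (algebraMap A B)) (h₂ : Res (algebraMap A B)) : HasTowers A B StepSC := by
  refine hasTowers_of StepSC (fun _ _ _ h h' => stepSC_mono h h') fun T hT => ?_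
  haveI : Algebra.IsIntegral T B :=
    ⟨fun x => (hint.isIntegral x).tower_top (A := T)⟩
  obtain ⟨b, hb, ⟨c, hc⟩, ⟨d, hd⟩⟩ := exists_sq_cube (A := T) (B := B) Subtype.val_injective
    (fun hs => hT (eq_top_iff.mpr fun x _ => by obtain ⟨y, rfl⟩ := hs x; exact y.2))
    (fun q q' hq hq' e => h₁ q q' hq hq' (by
      ext a; exact SetLike.ext_iff.mp e (algebraMap A T a)))
    (fun q hq x => by obtain ⟨a, s, hs, hx⟩ := h₂ q hq x; exact ⟨algebraMap A T a, algebraMap A T s, hs, hx⟩)
  classical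
  refine ⟨b, fun h => hb ⟨⟨b, h⟩, rfl⟩, {b ^ 2, b ^ 3}, ?_, fun T' hT' => ?_⟩
  · rw [Finset.coe_insert, Finset.coe_singleton, Set.insert_subset_iff, Set.singleton_subset_iff]
    exact ⟨hc ▸ c.2, hd ▸ d.2⟩
  · exact ⟨hT' (by simp), hT' (by simp)⟩

theorem hasTowers_stepP_of (hint : Algebra.IsIntegral A B)
    (h₁ : Inj2 (algebraMap A B)) (h₂ : Rad (algebraMap A B)) : HasTowers A B StepP := by
  refine hasTowers_of StepP (fun _ _ _ h h' => stepP_mono h h') fun T hT => ?_
  haveI : Algebra.IsIntegral T B :=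
    ⟨fun x => (hint.isIntegral x).tower_top (A := T)⟩
  have hres : ∀ q b, ResAt (algebraMap A B) q b → ResAt (algebraMap T B) q b :=
    fun q b ⟨a, s, hs, hx⟩ => ⟨algebraMap A T a, algebraMap A T s, hs, hx⟩
  classical
  rcases exists_sq_cube_or_prime (A := T) (B := B) Subtype.val_injective
    (fun hs => hT (eq_top_iff.mpr fun x _ => by obtain ⟨y, rfl⟩ := hs x; exact y.2))
    (fun q q' hq hq' e => h₁ q q' hq hq' (by
      ext a; exact SetLike.ext_iff.mp e (algebraMap A T a)))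
    (fun q hq x => (h₂ q hq x).imp (hres q x)
      fun ⟨p, hp, hpq, n, hn⟩ => ⟨p, hp, hpq, n, hres q _ hn⟩) with
    ⟨b, hb, ⟨c, hc⟩, ⟨d, hd⟩⟩ | ⟨p, b, hp, hb, ⟨c, hc⟩, ⟨d, hd⟩⟩
  · refine ⟨b, fun h => hb ⟨⟨b, h⟩, rfl⟩, {b ^ 2, b ^ 3}, ?_, fun T' hT' =>
      Or.inl ⟨hT' (by simp), hT' (by simp)⟩⟩
    rw [Finset.coe_insert, Finset.coe_singleton, Set.insert_subset_iff, Set.singleton_subset_iff]
    exact ⟨hc ▸ c.2, hd ▸ d.2⟩
  · refine ⟨b, fun h => hb ⟨⟨b, h⟩, rfl⟩, {(p : B) * b, b ^ p}, ?_, fun T' hT' =>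
      Or.inr ⟨p, hp, hT' (by simp), hT' (by simp)⟩⟩
    rw [Finset.coe_insert, Finset.coe_singleton, Set.insert_subset_iff, Set.singleton_subset_iff]
    exact ⟨hc ▸ c.2, hd ▸ d.2⟩

theorem HasTowers.mono {Pr Pr' : Subalgebra A B → B → Prop}
    (h : ∀ T b, Pr T b → Pr' T b) (ht : HasTowers A B Pr) : HasTowers A B Pr' := fun E => by
  obtain ⟨l, hl, hlt⟩ := ht E
  exact ⟨l, hl, fun i => h _ _ (hlt i)⟩

end Groth.Agent.UH
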